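import Cfsg.Agent.Lib.JankoFour.ThreeTwelve.Line
import Cfsg.Agent.Lib.Transfer.Critical

/-!
# The elementary group of order eight and the core of its normaliser
-/

set_option autoImplicit false
set_option linter.unusedSectionVars false
set_option linter.style.haveILetI false
set_option maxHeartbeats 1000000

namespace CfsgLib.JankoFour.ThreeTwelve

open Subgroup QuadraticMap CfsgLib.LargeExtra
open CfsgLib.LargeFischer (CentData perpSub perpSub_card vadd_self eq_of_vadd z2_cases)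

variable {G : Type*} [Group G] [Finite G] {z : G}

/-- The image of `Q` in the group. -/
abbrev Qz (Q : Subgroup (centralizer ({z} : Set G))) : Subgroup G := Q.map (centralizer ({z} : Set G)).subtype

/-- The conjugate of `Q`. -/
abbrev Qs (Q : Subgroup (centralizer ({z} : Set G))) (g : G) : Subgroup G :=
  (Qz Q).map (MulAut.conj g).toMonoidHom

/-- The element of the group of an element of `Q`. -/
abbrev val {Q : Subgroup (centralizer ({z} : Set G))} (a : ↥Q) : G := ((a : centralizer ({z} : Set G)) : G)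

/-- The configuration: a second conjugate of the central involution in `Q` and a lift of its translate. -/
structure Cfg (Q : Subgroup (centralizer ({z} : Set G))) [Q.Normal] {V : Type*} [AddCommGroup V]
    [Module (ZMod 2) V] [DistribMulAction ((centralizer ({z} : Set G)) ⧸ Q) V] [Finite V]
    (q : QuadraticForm (ZMod 2) V) (π : ↥Q → V) (n : (centralizer ({z} : Set G)) ⧸ Q)
    (M : Subgroup ((centralizer ({z} : Set G)) ⧸ Q)) (φ : ↥M →* ↥Cfsg.Spor.M22) (g : G) (x y : ↥Q)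
    (E : Subgroup ((centralizer ({z} : Set G)) ⧸ Q)) (D : AddSubgroup V) : Prop where
  mdl : Model z Q q π n M φ
  hp : PairHyp (Qz Q) z g
  hx : val x = g * z * g⁻¹
  cls : Class q ((centralizer ({z} : Set G)) ⧸ Q) (π x)
  dat : CentData q (π x) E D
  hE : E = ((Qs Q g ⊓ centralizer ({z} : Set G)).subgroupOf (centralizer ({z} : Set G))).map (QuotientGroup.mk' Q)
  hD : ∀ v, v ∈ D ↔ ∃ a : ↥Q, val a ∈ Qs Q g ∧ π a = v
  hy : val y ∈ Qs Q g
  hy' : π y = n • π x

variable {Q : Subgroup (centralizer ({z} : Set G))} [Q.Normal] {V : Type*} [AddCommGroup V] [Module (ZMod 2) V]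
  [DistribMulAction ((centralizer ({z} : Set G)) ⧸ Q) V] [Finite V] {q : QuadraticForm (ZMod 2) V} {π : ↥Q → V}
  {n : (centralizer ({z} : Set G)) ⧸ Q} {M : Subgroup ((centralizer ({z} : Set G)) ⧸ Q)} {φ : ↥M →* ↥Cfsg.Spor.M22}
  {g : G} {x y : ↥Q} {E : Subgroup ((centralizer ({z} : Set G)) ⧸ Q)} {D : AddSubgroup V}

/-- A configuration exists at every fused element of the two-core. -/
theorem exists_cfg (m : Model z Q q π n M φ) {x : ↥Q} (hx : IsConj z (val x)) (hne : val x ≠ z) :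
    ∃ g y E D, Cfg Q q π n M φ g x y E D := by
  obtain ⟨g, hg⟩ := isConj_iff.1 hx
  have h := m.pair g (hg ▸ ⟨_, x.2, rfl⟩) (hg ▸ hne)
  obtain ⟨h1, D, hd, -, hD⟩ := m.centData_full h m.cardQ (x := x) hg.symm
  have hcls := m.class_of_isConj hx hne
  have l : LineData q n M φ (π x) _ D := ⟨m.core, m.facts, hcls, hd⟩
  obtain ⟨y, hy, hy'⟩ := (hD _).1 l.fix_line.1
  exact ⟨g, y, _, D, m, h, hg.symm, hcls, hd, rfl, hD, hy, hy'⟩

namespace Cfg

variable (c : Cfg Q q π n M φ g x y E D)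
include c

theorem line : LineData q n M φ (π x) E D := ⟨c.mdl.core, c.mdl.facts, c.cls, c.dat⟩

theorem val_mem (a : ↥Q) : val a ∈ Qz Q := ⟨_, a.2, rfl⟩

theorem comm_z (w : centralizer ({z} : Set G)) : (w : G) * z = z * (w : G) := mem_centralizer_singleton_iff.1 w.2

theorem z_val : ∃ z₀ : ↥Q, val z₀ = z := by
  obtain ⟨a, ha, e⟩ := c.hp.z_mem
  exact ⟨⟨a, ha⟩, e⟩

theorem x_ne : val x ≠ 1 ∧ val x ≠ z := ⟨c.hx ▸ c.hp.x_ne_one, c.hx ▸ c.hp.ne⟩

theorem x_mem : val x ∈ Qs Q g := c.hx ▸ c.hp.x_mem_map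

theorem z_mem' : z ∈ Qs Q g := c.hp.automizer.2

theorem x_comm {w : G} (hw : w ∈ Qs Q g) : w * val x = val x * w := by
  rw [c.hx]
  exact c.hp.map_comm hw

theorem mem_E {e : (centralizer ({z} : Set G)) ⧸ Q} :
    e ∈ E ↔ ∃ b : centralizer ({z} : Set G), (b : G) ∈ Qs Q g ∧ QuotientGroup.mk' Q b = e := by
  rw [c.hE]
  constructor
  · rintro ⟨b, hb, rfl⟩
    exact ⟨b, hb.1, rfl⟩
  · rintro ⟨b, hb, rfl⟩
    exact ⟨b, ⟨hb, b.2⟩, rfl⟩

theorem pi_conj (w : centralizer ({z} : Set G)) (a : ↥Q) :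
    ∃ a' : ↥Q, val a' = (w : G) * val a * (w : G)⁻¹ ∧ π a' = (QuotientGroup.mk' Q w) • π a :=
  ⟨MulAut.conjNormal w a, by simp [val, MulAut.conjNormal_apply], (c.mdl.equiv w a).symm⟩

/-- If the image of an element fixes the vector of an element of `Q`, it fixes that element up to `z`. -/
theorem conj_cases {w : centralizer ({z} : Set G)} {a : ↥Q} (h : (QuotientGroup.mk' Q w) • π a = π a) :
    (w : G) * val a * (w : G)⁻¹ = val a ∨ (w : G) * val a * (w : G)⁻¹ = val a * z := by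
  obtain ⟨a', h1, h2⟩ := c.pi_conj w a
  rw [← h1]
  exact c.mdl.pi_eq (h2.trans h).symm

theorem smul_of_comm {w : centralizer ({z} : Set G)} {a : ↥Q} (h : (w : G) * val a = val a * (w : G)) :
    (QuotientGroup.mk' Q w) • π a = π a := by
  obtain ⟨a', h1, h2⟩ := c.pi_conj w a
  rw [← h2, show a' = a from Subtype.ext (Subtype.ext (by rw [show ((a' : centralizer ({z} : Set G)) : G) = _ from h1, h,
    mul_inv_cancel_right]))]

/-! ## The group of order eight -/

/-- The line as a subgroup. -/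
noncomputable def Ln : AddSubgroup V where
  carrier := {v | InLine n (π x) v}
  zero_mem' := Or.inl rfl
  add_mem' := fun ha hb => c.line.inLine_add ha hb
  neg_mem' := fun {a} ha => by
    rwa [← eq_neg_of_add_eq_zero_left (vadd_self a)]

/-- The preimage of a subgroup of the space. -/
noncomputable def pre (S : AddSubgroup V) : Subgroup ↥Q where
  carrier := {a | π a ∈ S}
  one_mem' := by
    show π 1 ∈ S
    rw [c.mdl.pi_one]
    exact S.zero_mem
  mul_mem' := fun {a b} ha hb => by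
    show π (a * b) ∈ S
    rw [c.mdl.pi_mul]
    exact S.add_mem ha hb
  inv_mem' := fun {a} ha => by
    show π a⁻¹ ∈ S
    rwa [c.mdl.pi_inv]

theorem pre_card (S : AddSubgroup V) : Nat.card ↥(c.pre S) = 2 * Nat.card ↥S := by
  let f : ↥(c.pre S) →* Multiplicative ↥S := MonoidHom.mk' (fun a => Multiplicative.ofAdd ⟨π (a : ↥Q), a.2⟩)
    fun a b => Multiplicative.toAdd.injective (Subtype.ext (c.mdl.pi_mul _ _))
  have hf : Function.Surjective f := fun v => by
    obtain ⟨a, ha⟩ := c.mdl.surj (Multiplicative.toAdd v : ↥S).1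
    exact ⟨⟨a, by show π a ∈ S; rw [ha]; exact (Multiplicative.toAdd v : ↥S).2⟩, congrArg Multiplicative.ofAdd (Subtype.ext ha)⟩
  obtain ⟨z₀, hz₀⟩ := c.z_val
  have hk : ∀ a, a ∈ f.ker ↔ π (a : ↥Q) = 0 := fun a =>
    ⟨fun h => congrArg (fun v : Multiplicative ↥S => Subtype.val (Multiplicative.toAdd v)) h,
      fun h => congrArg Multiplicative.ofAdd (Subtype.ext h)⟩
  have hz0 : π z₀ = 0 := (c.mdl.ker _).2 (.inr hz₀)
  have hzS : z₀ ∈ c.pre S := by
    show π z₀ ∈ S
    rw [hz0]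
    exact S.zero_mem
  have h2 : Nat.card ↥f.ker = 2 := by
    rw [show Nat.card ↥f.ker = ({⟨1, one_mem _⟩, ⟨z₀, hzS⟩} : Set ↥(c.pre S)).ncard from ?_]
    · exact Set.ncard_pair fun e => c.hp.z_ne_one (hz₀ ▸ (congrArg (fun a : ↥(c.pre S) => val (a : ↥Q)) e).symm)
    · rw [← Nat.card_coe_set_eq]
      refine Nat.card_congr (Equiv.setCongr (Set.ext fun a => ?_))
      rw [SetLike.mem_coe, hk, c.mdl.ker]
      simp only [Set.mem_insert_iff, Set.mem_singleton_iff]
      refine or_congr ⟨fun h => Subtype.ext (Subtype.ext (Subtype.ext h)), fun h => by rw [h]; rfl⟩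
        ⟨fun h => Subtype.ext (Subtype.ext (Subtype.ext (h.trans hz₀.symm))), fun h => by rw [h]; exact hz₀⟩
  have h1 := f.ker.card_mul_index
  rw [index_ker, MonoidHom.range_eq_top.2 hf, card_top, Nat.card_congr Multiplicative.toAdd, h2] at h1
  exact h1.symm

theorem Ln_card : Nat.card ↥c.Ln = 4 := by
  obtain ⟨h1, h2, h3, -, -⟩ := c.line.line_distinct
  have hns : n • π x ≠ 0 := fun h => c.cls.ne (by rw [← inv_smul_smul n (π x), h, smul_zero])
  have hnns : n • n • π x ≠ 0 := fun h => hns (by rw [← inv_smul_smul n (n • π x), h, smul_zero])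
  have : (c.Ln : Set V) = {0, π x, n • π x, n • n • π x} := Set.ext fun v => by
    simp only [SetLike.mem_coe, Set.mem_insert_iff, Set.mem_singleton_iff]
    exact Iff.rfl
  rw [← SetLike.coe_sort_coe, Nat.card_coe_set_eq, this]
  rw [Set.ncard_insert_of_notMem, Set.ncard_insert_of_notMem, Set.ncard_pair h3.symm]
  · simp only [Set.mem_insert_iff, Set.mem_singleton_iff, not_or]
    exact ⟨h1.symm, h2.symm⟩
  · simp only [Set.mem_insert_iff, Set.mem_singleton_iff, not_or]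
    exact ⟨c.cls.ne.symm, hns.symm, hnns.symm⟩

/-- The group of order eight. -/
noncomputable def V8 : Subgroup G := (c.pre c.Ln).map ((centralizer ({z} : Set G)).subtype.comp Q.subtype)

theorem mem_V8 {v : G} : v ∈ c.V8 ↔ ∃ a : ↥Q, InLine n (π x) (π a) ∧ val a = v := Iff.rfl

theorem inj_val : Function.Injective ((centralizer ({z} : Set G)).subtype.comp Q.subtype) :=
  fun _ _ e => Subtype.ext (Subtype.ext e)

theorem V8_card : Nat.card ↥c.V8 = 8 := by
  rw [V8, card_map_of_injective c.inj_val, c.pre_card, c.Ln_card]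

theorem line_D {v : V} (h : InLine n (π x) v) : v ∈ D := by
  obtain ⟨-, h1, h2⟩ := c.line.fixed_line
  rcases h with rfl | rfl | rfl | rfl
  exacts [D.zero_mem, c.dat.mem, h1, h2]

theorem D_mem {a : ↥Q} (h : π a ∈ D) : val a ∈ Qz Q ⊓ Qs Q g := by
  obtain ⟨a', ha', e⟩ := (c.hD _).1 h
  refine ⟨c.val_mem a, ?_⟩
  rcases c.mdl.pi_eq e with e' | e'
  · rw [show val a = val a' from e']
    exact ha'
  · rw [show val a = val a' * z from e']
    exact mul_mem ha' c.z_mem'

theorem V8_le : c.V8 ≤ Qz Q ⊓ Qs Q g := by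
  rintro v hv
  obtain ⟨a, ha, rfl⟩ := c.mem_V8.1 hv
  exact c.D_mem (c.line_D ha)

theorem V8_elem : Cfsg.IsElementaryAbelian 2 c.V8 :=
  ⟨⟨⟨fun a b => Subtype.ext (c.hp.E_comm _ (c.V8_le a.2) _ (c.V8_le b.2))⟩⟩,
    fun a ha => by rw [pow_two]; exact c.hp.E_sq _ (c.V8_le ha)⟩

theorem mem_zxy : z ∈ c.V8 ∧ val x ∈ c.V8 ∧ val y ∈ c.V8 := by
  obtain ⟨z₀, hz₀⟩ := c.z_val
  exact ⟨⟨z₀, Or.inl ((c.mdl.ker _).2 (.inr hz₀)), hz₀⟩, c.mem_V8.2 ⟨x, Or.inr (Or.inl rfl), rfl⟩,
    c.mem_V8.2 ⟨y, Or.inr (Or.inr (Or.inl c.hy')), rfl⟩⟩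

theorem cases_V8 {v : G} (hv : v ∈ c.V8) :
    ∃ w, (w = 1 ∨ w = val x ∨ w = val y ∨ w = val x * val y) ∧ (v = w ∨ v = w * z) := by
  obtain ⟨a, ha, rfl⟩ := c.mem_V8.1 hv
  obtain ⟨-, -, -, hsum, -⟩ := c.line.line_distinct
  rcases ha with h | h | h | h
  · exact ⟨1, Or.inl rfl, by rw [one_mul]; exact (c.mdl.ker a).1 h⟩
  · exact ⟨_, Or.inr (Or.inl rfl), c.mdl.pi_eq h.symm⟩
  · exact ⟨_, Or.inr (Or.inr (Or.inl rfl)), c.mdl.pi_eq (c.hy'.trans h.symm)⟩
  · refine ⟨_, Or.inr (Or.inr (Or.inr rfl)), ?_⟩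
    have := c.mdl.pi_eq (x := x * y) (y := a) (by rw [c.mdl.pi_mul, c.hy', hsum, h])
    simpa [val] using this

/-- The centraliser of the group of order eight. -/
theorem mem_cent {w : G} : w ∈ centralizer (c.V8 : Set G) ↔
    w * z = z * w ∧ w * val x = val x * w ∧ w * val y = val y * w := by
  obtain ⟨h1, h2, h3⟩ := c.mem_zxy
  constructor
  · intro h
    exact ⟨(mem_centralizer_iff.1 h z h1).symm, (mem_centralizer_iff.1 h _ h2).symm,
      (mem_centralizer_iff.1 h _ h3).symm⟩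
  · rintro ⟨hz, hx', hy'⟩
    refine mem_centralizer_iff.2 fun v hv => ?_
    obtain ⟨u, hu, huv⟩ := c.cases_V8 hv
    have hu' : Commute w u := by
      rcases hu with rfl | rfl | rfl | rfl
      exacts [Commute.one_right w, hx', hy', Commute.mul_right hx' hy']
    rcases huv with rfl | rfl
    exacts [hu'.eq.symm, (hu'.mul_right hz).eq.symm]

theorem cent_le : centralizer (c.V8 : Set G) ≤ centralizer ({z} : Set G) := fun _ hw =>
  mem_centralizer_singleton_iff.2 (c.mem_cent.1 hw).1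

theorem mk_cent {w : centralizer ({z} : Set G)} (hw : (w : G) ∈ centralizer (c.V8 : Set G)) :
    QuotientGroup.mk' Q w ∈ MulAction.stabilizer ((centralizer ({z} : Set G)) ⧸ Q) (π x) ⊓ M := by
  obtain ⟨-, h2, h3⟩ := c.mem_cent.1 hw
  refine (c.line.fix_pair).1 ⟨c.smul_of_comm h2, ?_⟩
  rw [← c.hy']
  exact c.smul_of_comm h3

/-- Lifts centralising the second involution. -/
theorem lift_x {k : (centralizer ({z} : Set G)) ⧸ Q} (hk : k • π x = π x) :
    ∃ w : centralizer ({z} : Set G), QuotientGroup.mk' Q w = k ∧ (w : G) * val x = val x * (w : G) := by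
  obtain ⟨w, rfl⟩ := QuotientGroup.mk'_surjective Q k
  rcases c.conj_cases hk with e | e
  · exact ⟨w, rfl, mul_inv_eq_iff_eq_mul.1 e⟩
  · obtain ⟨b, hb, hbx⟩ := c.hp.automizer.1
    obtain ⟨b, hbQ, rfl⟩ := hb
    refine ⟨b * w, ?_, ?_⟩
    · rw [map_mul, show QuotientGroup.mk' Q b = 1 from (QuotientGroup.eq_one_iff b).2 hbQ, one_mul]
    · refine mul_inv_eq_iff_eq_mul.1 ?_
      rw [← c.hx] at hbx
      have hbz : (b : G) * z * (b : G)⁻¹ = z := by rw [c.comm_z b, mul_inv_cancel_right]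
      show (b : G) * (w : G) * val x * ((b : G) * (w : G))⁻¹ = val x
      calc (b : G) * (w : G) * val x * ((b : G) * (w : G))⁻¹
          = (b : G) * ((w : G) * val x * (w : G)⁻¹) * (b : G)⁻¹ := by group
        _ = ((b : G) * val x * (b : G)⁻¹) * ((b : G) * z * (b : G)⁻¹) := by rw [e]; group
        _ = val x := by
          rw [hbz, show (b : G) * val x * (b : G)⁻¹ = z * val x from hbx, mul_assoc,
            c.comm_z (x : centralizer ({z} : Set G)), ← mul_assoc, c.hp.zz, one_mul]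

theorem exists_lift {k : (centralizer ({z} : Set G)) ⧸ Q}
    (hk : k ∈ MulAction.stabilizer ((centralizer ({z} : Set G)) ⧸ Q) (π x) ⊓ M) :
    ∃ w : centralizer ({z} : Set G), QuotientGroup.mk' Q w = k ∧ (w : G) ∈ centralizer (c.V8 : Set G) := by
  obtain ⟨w, hw, hwx⟩ := c.lift_x hk.1
  have hky : k • π y = π y := by rw [c.hy']; exact ((c.line.fix_pair).2 hk).2
  rcases c.conj_cases (a := y) (by rw [hw]; exact hky) with e | e
  · exact ⟨w, hw, c.mem_cent.2 ⟨c.comm_z w, hwx, mul_inv_eq_iff_eq_mul.1 e⟩⟩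
  -- a vector orthogonal to the central one and not to its translate
  obtain ⟨v, hv1, hv2⟩ : ∃ v, polar q v (π x) = 0 ∧ polar q v (π y) ≠ 0 := by
    by_contra hc
    simp only [not_exists, not_and, not_not] at hc
    obtain ⟨u, hu⟩ : ∃ u, polar q u (π x) ≠ 0 := by
      by_contra h
      simp only [not_exists, not_not] at h
      exact c.cls.ne (c.mdl.core.nondeg _ fun w => by rw [polar_comm]; exact h w)
    obtain ⟨h1, -, -, -, -⟩ := c.line.line_distinct
    have hns : π y ≠ 0 := by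
      rw [c.hy']
      exact fun h => c.cls.ne (by rw [← inv_smul_smul n (π x), h, smul_zero])
    rcases z2_cases (polar q u (π y)) with h | h
    · refine hns (c.mdl.core.nondeg _ fun w => ?_)
      rcases z2_cases (polar q w (π x)) with h' | h'
      · rw [polar_comm]; exact hc w h'
      · have := hc (w + u) (by rw [polar_add_left, h', (z2_cases _).resolve_left hu]; rfl)
        rwa [polar_add_left, h, add_zero, polar_comm] at this
    · apply h1
      rw [← c.hy']
      refine eq_of_vadd (c.mdl.core.nondeg _ fun w => ?_)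
      rw [polar_comm, polar_add_right]
      rcases z2_cases (polar q w (π x)) with h' | h'
      · rw [hc w h', h', add_zero]
      · have := hc (w + u) (by rw [polar_add_left, h', (z2_cases _).resolve_left hu]; rfl)
        rw [polar_add_left, h] at this
        rw [h', show polar q w (π y) = 1 from eq_of_vadd (V := ZMod 2) this]
        rfl
  obtain ⟨b, rfl⟩ := c.mdl.surj v
  have hbx := (c.mdl.polar_iff b x).1 hv1
  have hby : val b * val y * (val b)⁻¹ = val y * z := by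
    have hb : (QuotientGroup.mk' Q (b : centralizer ({z} : Set G))) • π y = π y := by
      rw [show QuotientGroup.mk' Q (b : centralizer ({z} : Set G)) = 1 from (QuotientGroup.eq_one_iff _).2 b.2, one_smul]
    exact (c.conj_cases hb).resolve_left fun h => hv2 ((c.mdl.polar_iff b y).2 (mul_inv_eq_iff_eq_mul.1 h))
  refine ⟨(b : centralizer ({z} : Set G)) * w, ?_, c.mem_cent.2 ⟨c.comm_z _, ?_, ?_⟩⟩
  · rw [map_mul, show QuotientGroup.mk' Q (b : centralizer ({z} : Set G)) = 1 from (QuotientGroup.eq_one_iff _).2 b.2,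
      one_mul, hw]
  · exact Commute.mul_left hbx hwx
  · refine mul_inv_eq_iff_eq_mul.1 ?_
    have hbz : val b * z * (val b)⁻¹ = z := by rw [c.comm_z (b : centralizer ({z} : Set G)), mul_inv_cancel_right]
    show val b * (w : G) * val y * (val b * (w : G))⁻¹ = val y
    calc val b * (w : G) * val y * (val b * (w : G))⁻¹
        = val b * ((w : G) * val y * (w : G)⁻¹) * (val b)⁻¹ := by group
      _ = (val b * val y * (val b)⁻¹) * (val b * z * (val b)⁻¹) := by rw [e]; group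
      _ = val y := by rw [hby, hbz, mul_assoc, c.hp.zz, mul_one]

/-- The orthogonal space of the line. -/
noncomputable def Perp : AddSubgroup V := perpSub q c.Ln

theorem mem_Perp {v : V} : v ∈ c.Perp ↔ polar q v (π x) = 0 ∧ polar q v (π y) = 0 := by
  rw [c.hy']
  constructor
  · exact fun h => ⟨h _ (Or.inr (Or.inl rfl)), h _ (Or.inr (Or.inr (Or.inl rfl)))⟩
  · rintro ⟨h1, h2⟩ u (rfl | rfl | rfl | rfl)
    · exact QuadraticMap.polar_zero_right q v
    · exact h1
    · exact h2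
    · rw [← (c.line.line_distinct).2.2.2.1, polar_add_right, h1, h2, add_zero]

theorem Perp_card : Nat.card ↥c.Perp = 1024 := by
  have h := perpSub_card q c.mdl.core.nondeg c.Ln
  rw [c.Ln_card, c.mdl.core.cardV] at h
  show Nat.card ↥(perpSub q c.Ln) = 1024
  omega

theorem Q_cent {a : ↥Q} : val a ∈ centralizer (c.V8 : Set G) ↔ π a ∈ c.Perp := by
  rw [c.mem_cent, c.mem_Perp, c.mdl.polar_iff, c.mdl.polar_iff]
  exact ⟨fun h => h.2, fun h => ⟨c.comm_z _, h⟩⟩

/-- The centraliser, inside the centraliser of `z`. -/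
noncomputable def CH : Subgroup (centralizer ({z} : Set G)) :=
  (centralizer (c.V8 : Set G)).subgroupOf (centralizer ({z} : Set G))

/-- The map to the stabiliser. -/
noncomputable def toY : ↥c.CH →* ↥(MulAction.stabilizer ((centralizer ({z} : Set G)) ⧸ Q) (π x) ⊓ M) :=
  ((QuotientGroup.mk' Q).comp c.CH.subtype).codRestrict _ fun w => c.mk_cent w.2

theorem toY_surj : Function.Surjective c.toY := fun k => by
  obtain ⟨w, hw, hw'⟩ := c.exists_lift k.2
  exact ⟨⟨w, hw'⟩, Subtype.ext hw⟩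

theorem cent_card : Nat.card ↥(centralizer (c.V8 : Set G)) = 2 ^ 11 * 1920 := by
  have h := c.toY.ker.card_mul_index
  rw [index_ker, MonoidHom.range_eq_top.2 c.toY_surj, card_top, (c.line.Y_card)] at h
  have hk : Nat.card ↥c.toY.ker = Nat.card ↥(c.pre c.Perp) := Nat.card_congr
    { toFun := fun w => ⟨⟨w.1.1, (QuotientGroup.eq_one_iff _).1 (congrArg Subtype.val (MonoidHom.mem_ker.1 w.2))⟩,
        c.Q_cent.1 w.1.2⟩
      invFun := fun a => ⟨⟨(a.1 : centralizer ({z} : Set G)), c.Q_cent.2 a.2⟩,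
        MonoidHom.mem_ker.2 (Subtype.ext ((QuotientGroup.eq_one_iff _).2 a.1.2))⟩
      left_inv := fun w => rfl
      right_inv := fun a => rfl }
  rw [hk, c.pre_card, c.Perp_card] at h
  rw [← Nat.card_congr (subgroupOfEquivOfLe c.cent_le).toEquiv]
  show Nat.card ↥c.CH = _
  rw [← h]
  norm_num

/-! ## The group `R` -/

/-- The part over the elementary group. -/
noncomputable def RH : Subgroup (centralizer ({z} : Set G)) := c.CH ⊓ (E ⊓ M).comap (QuotientGroup.mk' Q)

/-- The core of the normaliser. -/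
noncomputable def Rg : Subgroup G := c.RH.map (centralizer ({z} : Set G)).subtype

theorem mem_Rg {w : centralizer ({z} : Set G)} :
    (w : G) ∈ c.Rg ↔ (w : G) ∈ centralizer (c.V8 : Set G) ∧ QuotientGroup.mk' Q w ∈ E ⊓ M := by
  constructor
  · rintro ⟨w', hw', e⟩
    rw [← Subtype.ext e]
    exact hw'
  · exact fun h => ⟨w, h, rfl⟩

theorem Rg_le : c.Rg ≤ centralizer (c.V8 : Set G) := by
  rintro _ ⟨w, hw, rfl⟩
  exact hw.1

theorem Q_mem_Rg {a : ↥Q} (ha : π a ∈ c.Perp) : val a ∈ c.Rg :=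
  c.mem_Rg.2 ⟨c.Q_cent.2 ha, by
    rw [show QuotientGroup.mk' Q (a : centralizer ({z} : Set G)) = 1 from (QuotientGroup.eq_one_iff _).2 a.2]
    exact one_mem _⟩

theorem Rg_card : Nat.card ↥c.Rg = 2 ^ 15 := by
  obtain ⟨-, -, h16, -⟩ := c.line.data_cards
  rw [Rg, card_map_of_injective (subtype_injective _)]
  set Y := MulAction.stabilizer ((centralizer ({z} : Set G)) ⧸ Q) (π x) ⊓ M
  have hEY : E ⊓ M ≤ Y := fun e he => ⟨c.line.E_le_stab he.1, he.2⟩
  let p : ↥c.RH →* ↥(E ⊓ M) := ((QuotientGroup.mk' Q).comp c.RH.subtype).codRestrict _ fun w => w.2.2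
  have hp : Function.Surjective p := fun e => by
    obtain ⟨w, hw, hw'⟩ := c.exists_lift (hEY e.2)
    exact ⟨⟨w, hw', show QuotientGroup.mk' Q w ∈ E ⊓ M by rw [hw]; exact e.2⟩, Subtype.ext hw⟩
  have h := p.ker.card_mul_index
  rw [index_ker, MonoidHom.range_eq_top.2 hp, card_top, h16] at h
  have hk : Nat.card ↥p.ker = Nat.card ↥(c.pre c.Perp) := Nat.card_congr
    { toFun := fun w => ⟨⟨w.1.1, (QuotientGroup.eq_one_iff _).1 (congrArg Subtype.val (MonoidHom.mem_ker.1 w.2))⟩,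
        c.Q_cent.1 w.1.2.1⟩
      invFun := fun a => ⟨⟨(a.1 : centralizer ({z} : Set G)), c.Q_cent.2 a.2,
          show QuotientGroup.mk' Q (a.1 : centralizer ({z} : Set G)) ∈ E ⊓ M by
            rw [show QuotientGroup.mk' Q (a.1 : centralizer ({z} : Set G)) = 1 from (QuotientGroup.eq_one_iff _).2 a.1.2]
            exact one_mem _⟩,
        MonoidHom.mem_ker.2 (Subtype.ext ((QuotientGroup.eq_one_iff _).2 a.1.2))⟩
      left_inv := fun w => rfl
      right_inv := fun a => rfl }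
  rw [hk, c.pre_card, c.Perp_card] at h
  rw [← h]
  norm_num

/-- Every element of `R` is a product of a part in the conjugate and a part in `Q`. -/
theorem decomp {r : G} (hr : r ∈ c.Rg) : ∃ (b : centralizer ({z} : Set G)) (a : ↥Q),
    (b : G) ∈ Qs Q g ∧ (b : G) ∈ centralizer (c.V8 : Set G) ∧ QuotientGroup.mk' Q b ∈ E ⊓ M ∧
      π a ∈ c.Perp ∧ r = (b : G) * val a := by
  obtain ⟨w, hw, rfl⟩ := hr
  obtain ⟨b, hb, hbe⟩ := c.mem_E.1 hw.2.1
  have hbk : QuotientGroup.mk' Q b • π y = π y := by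
    rw [hbe, c.hy']
    exact ((c.line.fix_pair).2 (c.mk_cent hw.1)).2
  have hbC : (b : G) ∈ centralizer (c.V8 : Set G) := by
    refine c.mem_cent.2 ⟨c.comm_z b, c.x_comm hb, mul_inv_eq_iff_eq_mul.1 ?_⟩
    rcases c.conj_cases hbk with e | e
    · exact e
    · exfalso
      rcases c.hp.map_comm_cases hb c.hy with e' | e' <;>
        rw [e, show val y * z * (val y)⁻¹ = z by rw [c.comm_z (y : centralizer ({z} : Set G)), mul_inv_cancel_right]] at e'
      · exact c.hp.z_ne_one e'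
      · exact c.hp.ne e'.symm
  have hmem : b⁻¹ * w ∈ Q := by
    rw [← QuotientGroup.eq_one_iff, ← QuotientGroup.mk'_apply, map_mul, map_inv, hbe, inv_mul_cancel]
  refine ⟨b, ⟨b⁻¹ * w, hmem⟩, hb, hbC, hbe ▸ hw.2, c.Q_cent.1 ?_, ?_⟩
  · exact mul_mem (inv_mem hbC) hw.1
  · show (w : G) = (b : G) * ((b : G)⁻¹ * (w : G))
    rw [mul_inv_cancel_left]

/-- Commutators and squares in `R` lie in the group of order eight. -/
theorem Rg_mod : ∀ r ∈ c.Rg, ∀ r' ∈ c.Rg, r * r' * r⁻¹ * r'⁻¹ ∈ c.V8 ∧ r * r ∈ c.V8 := by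
  set T : Subgroup ↥c.Rg := c.V8.subgroupOf c.Rg
  have hcen : ∀ t ∈ c.V8, ∀ r ∈ c.Rg, r * t = t * r := fun t ht r hr =>
    (mem_centralizer_iff.1 (c.Rg_le hr) t ht).symm
  haveI : T.Normal := ⟨fun t ht r => by
    show (r : G) * (t : G) * (r : G)⁻¹ ∈ c.V8
    rw [hcen (t : G) ht (r : G) r.2, mul_inv_cancel_right]
    exact ht⟩
  obtain ⟨z8, x8, -⟩ := c.mem_zxy
  have hone : ∀ {u v : G}, (u = 1 ∨ u = v) → v ∈ c.V8 → u ∈ c.V8 := by
    rintro u v (rfl | rfl) hv
    exacts [one_mem _, hv]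
  -- the basic commutators
  have hQQ : ∀ a a' : ↥Q, val a * val a' * (val a)⁻¹ * (val a')⁻¹ ∈ c.V8 ∧ val a * val a ∈ c.V8 := fun a a' =>
    ⟨hone (c.hp.comm_cases (c.val_mem a) (c.val_mem a')) z8, hone (c.hp.sq_cases (c.val_mem a)) z8⟩
  have hBB : ∀ {b b' : G}, b ∈ Qs Q g → b' ∈ Qs Q g → b * b' * b⁻¹ * b'⁻¹ ∈ c.V8 ∧ b * b ∈ c.V8 := by
    intro b b' hb hb'
    exact ⟨hone (c.hp.map_comm_cases hb hb') (c.hx ▸ x8), hone (c.hp.map_sq_cases hb) (c.hx ▸ x8)⟩
  have hBQ : ∀ (b : centralizer ({z} : Set G)) (a : ↥Q), QuotientGroup.mk' Q b ∈ E ⊓ M → π a ∈ c.Perp →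
      (b : G) * val a * (b : G)⁻¹ * (val a)⁻¹ ∈ c.V8 := by
    intro b a hb ha
    obtain ⟨a', h1, h2⟩ := c.pi_conj b a
    refine c.mem_V8.2 ⟨a' * a⁻¹, ?_, ?_⟩
    · rw [c.mdl.pi_mul, c.mdl.pi_inv, h2]
      obtain ⟨p1, p2⟩ := c.mem_Perp.1 ha
      exact c.line.comm_line hb p1 (c.hy' ▸ p2)
    · show val (a' * a⁻¹) = _
      rw [show val (a' * a⁻¹) = val a' * (val a)⁻¹ from rfl, h1]
  have hcom : ∀ u v : ↥c.Rg, (u : G) * v * (u : G)⁻¹ * (v : G)⁻¹ ∈ c.V8 →
      Commute (QuotientGroup.mk' T u) (QuotientGroup.mk' T v) := fun u v h => by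
    show _ * _ = _ * _
    rw [← mul_inv_eq_one, ← map_mul, ← map_mul, ← map_inv, ← map_mul, QuotientGroup.mk'_apply,
      QuotientGroup.eq_one_iff]
    show (u : G) * v * ((v : G) * u)⁻¹ ∈ c.V8
    rwa [show (u : G) * v * ((v : G) * u)⁻¹ = (u : G) * v * (u : G)⁻¹ * (v : G)⁻¹ by group]
  intro r hr r' hr'
  obtain ⟨b, a, hb, hbC, hbE, ha, rfl⟩ := c.decomp hr
  obtain ⟨b', a', hb', hbC', hbE', ha', rfl⟩ := c.decomp hr'
  set B : ↥c.Rg := ⟨b, c.mem_Rg.2 ⟨hbC, hbE⟩⟩
  set B' : ↥c.Rg := ⟨b', c.mem_Rg.2 ⟨hbC', hbE'⟩⟩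
  set A : ↥c.Rg := ⟨val a, c.Q_mem_Rg ha⟩
  set A' : ↥c.Rg := ⟨val a', c.Q_mem_Rg ha'⟩
  have c1 := hcom B B' (hBB hb hb').1
  have c2 := hcom B A' (hBQ b a' hbE ha')
  have c3 := hcom B' A (hBQ b' a hbE' ha)
  have c4 := hcom A A' (hQQ a a').1
  have c5 := hcom B A (hBQ b a hbE ha)
  have hall : Commute (QuotientGroup.mk' T (B * A)) (QuotientGroup.mk' T (B' * A')) := by
    rw [map_mul, map_mul]
    exact (c1.mul_right c2).mul_left (c3.symm.mul_right c4)
  constructor
  · have h := mul_inv_eq_one.2 hall.eq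
    rw [← map_mul, ← map_mul, ← map_inv, ← map_mul, QuotientGroup.mk'_apply, QuotientGroup.eq_one_iff] at h
    have h' : ((b : G) * val a) * ((b' : G) * val a') * (((b' : G) * val a') * ((b : G) * val a))⁻¹ ∈ c.V8 := h
    rwa [mul_inv_rev, ← mul_assoc] at h'
  · have hB2 : QuotientGroup.mk' T B * QuotientGroup.mk' T B = 1 := by
      rw [← map_mul, QuotientGroup.mk'_apply, QuotientGroup.eq_one_iff]
      exact (hBB hb hb).2
    have hA2 : QuotientGroup.mk' T A * QuotientGroup.mk' T A = 1 := by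
      rw [← map_mul, QuotientGroup.mk'_apply, QuotientGroup.eq_one_iff]
      exact (hQQ a a).2
    have h : QuotientGroup.mk' T (B * A) * QuotientGroup.mk' T (B * A) = 1 := by
      rw [map_mul, c5.symm.mul_mul_mul_comm, hB2, hA2, one_mul]
    rw [← map_mul, QuotientGroup.mk'_apply, QuotientGroup.eq_one_iff] at h
    exact h

end Cfg

end CfsgLib.JankoFour.ThreeTwelve
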