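import Cfsg.Agent.Lib.Classical22.SymIndex

/-!
# Lifting normalisers of subgroups of prime order; the groups of order 120 with self-centralising fives
-/

set_option autoImplicit false
set_option linter.style.haveILetI false

namespace CfsgLib.JankoFour.ThreeTwelve

open Subgroup
open scoped Pointwise

variable {H H' : Type*} [Group H] [Finite H] [Group H'] [Finite H']

/-- A normalising element of the image of a group of prime order lifts. -/
theorem lift_normalizer {p : ℕ} [Fact p.Prime] (f : H →* H') (hf : Function.Surjective f)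
    (hker : ¬ p ∣ Nat.card ↥f.ker) (Q : Subgroup H) (hQ : Nat.card ↥Q = p) {g' : H'}
    (hg : g' ∈ normalizer ((Q.map f : Subgroup H') : Set H')) :
    ∃ g : H, g ∈ normalizer (Q : Set H) ∧ f g = g' := by
  obtain ⟨g, rfl⟩ := hf g'
  set M := (Q.map f).comap f with hM
  have hQM : Q ≤ M := fun x hx => ⟨x, hx, rfl⟩
  have hgM : Q.map (MulAut.conj g).toMonoidHom ≤ M := by
    rintro _ ⟨x, hx, rfl⟩
    show f (g * x * g⁻¹) ∈ Q.map f
    rw [map_mul, map_mul, map_inv]
    exact (mem_normalizer_iff.1 hg _).1 ⟨x, hx, rfl⟩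
  have hcardM : Nat.card ↥M = Nat.card ↥f.ker * p := by
    have hcQ : Nat.card ↥(Q.map f) = p := by
      have hd := card_map_dvd Q f
      rw [hQ] at hd
      refine ((Nat.dvd_prime (Fact.out : p.Prime)).1 hd).resolve_left fun h1 => hker ?_
      have hle : Q ≤ f.ker := fun x hx => MonoidHom.mem_ker.2 (by
        have := (card_eq_one.1 h1).le ⟨x, hx, rfl⟩
        rwa [mem_bot] at this)
      exact hQ ▸ card_dvd_of_le hle
    let f' : ↥M →* ↥(Q.map f) := (f.comp M.subtype).codRestrict _ fun x => x.2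
    have hf' : Function.Surjective f' := by
      rintro ⟨_, x, hx, rfl⟩
      exact ⟨⟨x, hQM hx⟩, rfl⟩
    have h := f'.ker.card_mul_index
    rw [index_ker, MonoidHom.range_eq_top.2 hf', card_top, hcQ] at h
    rw [← h]
    congr 1
    refine Nat.card_congr
      { toFun := fun x => ⟨(x : ↥M), congrArg Subtype.val (MonoidHom.mem_ker.1 x.2)⟩
        invFun := fun x => ⟨⟨x, show f x ∈ Q.map f by rw [MonoidHom.mem_ker.1 x.2]; exact one_mem _⟩,
          MonoidHom.mem_ker.2 (Subtype.ext (MonoidHom.mem_ker.1 x.2))⟩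
        left_inv := fun x => rfl
        right_inv := fun x => rfl }
  have hfac : p ^ (Nat.card ↥M).factorization p = p := by
    have hp : p.Prime := Fact.out
    rw [hcardM, Nat.factorization_mul Nat.card_pos.ne' hp.ne_zero, Finsupp.add_apply,
      Nat.factorization_eq_zero_of_not_dvd hker, hp.factorization_self, zero_add, pow_one]
  let S1 : Sylow p ↥M := Sylow.ofCard (Q.subgroupOf M) (by
    rw [Nat.card_congr (subgroupOfEquivOfLe hQM).toEquiv, hQ, hfac])
  let S2 : Sylow p ↥M := Sylow.ofCard ((Q.map (MulAut.conj g).toMonoidHom).subgroupOf M) (by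
    rw [Nat.card_congr (subgroupOfEquivOfLe hgM).toEquiv, card_map_of_injective (MulEquiv.injective _), hQ, hfac])
  obtain ⟨m, hm⟩ := MulAction.exists_smul_eq ↥M S2 S1
  have hN : (m : H) * g ∈ normalizer (Q : Set H) := by
    rw [mem_normalizer_iff_map_conj_eq]
    refine eq_of_le_of_card_ge ?_ (le_of_eq (card_map_of_injective (MulEquiv.injective _)).symm)
    rintro _ ⟨x, hx, rfl⟩
    have h2 : (⟨g * x * g⁻¹, hgM ⟨x, hx, rfl⟩⟩ : ↥M) ∈ (S2 : Subgroup ↥M) := ⟨x, hx, rfl⟩
    have h3 := Subgroup.smul_mem_pointwise_smul _ (MulAut.conj m) _ h2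
    rw [show (MulAut.conj m • (S2 : Subgroup ↥M)) = (S1 : Subgroup ↥M) from congrArg Sylow.toSubgroup hm] at h3
    show (m : H) * g * x * ((m : H) * g)⁻¹ ∈ Q
    have h4 : (m : H) * (g * x * g⁻¹) * (m : H)⁻¹ ∈ Q := h3
    rwa [show (m : H) * g * x * ((m : H) * g)⁻¹ = (m : H) * (g * x * g⁻¹) * (m : H)⁻¹ by group]
  obtain ⟨q, hq, hqm⟩ := m.2
  refine ⟨q⁻¹ * ((m : H) * g), mul_mem (inv_mem (le_normalizer hq)) hN, ?_⟩
  rw [map_mul, map_mul, map_inv, hqm, inv_mul_cancel_left]

/-- The stabiliser of a point among six is the symmetric group of degree five. -/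
theorem six_stabilizer {Ω : Type*} [Fintype Ω] [DecidableEq Ω] (h6 : Fintype.card Ω = 6) (c : Ω) :
    Nonempty (↥(MulAction.stabilizer (Equiv.Perm Ω) c) ≃* Equiv.Perm (Fin 5)) := by
  classical
  have h5 : Fintype.card {x : Ω // x ≠ c} = 5 := by
    rw [Fintype.card_subtype_compl, h6, Fintype.card_subtype_eq]
  let f : Equiv.Perm {x : Ω // x ≠ c} →* ↥(MulAction.stabilizer (Equiv.Perm Ω) c) :=
    (Equiv.Perm.ofSubtype (p := fun x : Ω => x ≠ c)).codRestrict _ fun s =>
      MulAction.mem_stabilizer_iff.2 (Equiv.Perm.ofSubtype_apply_of_not_mem s (by simp))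
  have hinj : Function.Injective f := fun a b e =>
    Equiv.Perm.ofSubtype_injective (congrArg Subtype.val e)
  have hcard : Nat.card (Equiv.Perm {x : Ω // x ≠ c}) = Nat.card ↥(MulAction.stabilizer (Equiv.Perm Ω) c) := by
    have h := (MulAction.stabilizer (Equiv.Perm Ω) c).card_mul_index
    rw [MulAction.index_stabilizer_of_transitive, Nat.card_perm, Nat.card_eq_fintype_card (α := Ω), h6] at h
    rw [Nat.card_perm, Nat.card_eq_fintype_card, h5]
    norm_num [Nat.factorial] at h ⊢
    omega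
  exact ⟨(MulEquiv.ofBijective f ((Nat.bijective_iff_injective_and_card f).2 ⟨hinj, hcard⟩)).symm.trans
    (Fintype.equivFinOfCardEq h5).permCongrHom⟩

/-- A group of order 120 with self-centralising elements of order five. -/
theorem iso_perm_five {Γ : Type*} [Group Γ] [Finite Γ] (h120 : Nat.card Γ = 120)
    (hcent : ∀ u : Γ, orderOf u = 5 → ∀ w : Γ, w * u = u * w → w ^ 5 = 1) :
    Nonempty (Γ ≃* Equiv.Perm (Fin 5)) := by
  classical
  haveI : Fact (Nat.Prime 5) := ⟨by norm_num⟩
  have hfac : (Nat.card Γ).factorization 5 = 1 := by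
    rw [h120, show 120 = 5 ^ 1 * 24 by norm_num, Nat.factorization_mul (by norm_num) (by norm_num),
      Nat.Prime.factorization_pow (by norm_num : Nat.Prime 5), Finsupp.add_apply, Finsupp.single_eq_same,
      Nat.factorization_eq_zero_of_not_dvd (by norm_num : ¬ 5 ∣ 24)]
  have hP5 : ∀ P : Sylow 5 Γ, Nat.card ↥(P : Subgroup Γ) = 5 := fun P => by
    rw [P.card_eq_multiplicity, hfac, pow_one]
  obtain ⟨P₀⟩ := (inferInstance : Nonempty (Sylow 5 Γ))
  obtain ⟨u, hu⟩ := exists_prime_orderOf_dvd_card' (G := ↥(P₀ : Subgroup Γ)) 5 (by rw [hP5])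
  have hu5 : orderOf (u : Γ) = 5 := by rw [Subgroup.orderOf_coe, hu]
  have hzu : zpowers (u : Γ) = (P₀ : Subgroup Γ) :=
    eq_of_le_of_card_ge (zpowers_le.2 u.2) (by rw [hP5, Nat.card_zpowers, hu5])
  have hn : Nat.card (Sylow 5 Γ) = 6 := by
    have h1 := card_sylow_modEq_one 5 Γ
    have h2 : Nat.card (Sylow 5 Γ) ∣ 24 := by
      have h := P₀.card_dvd_index
      have h3 := (P₀ : Subgroup Γ).card_mul_index
      rw [hP5, h120] at h3
      rwa [show (P₀ : Subgroup Γ).index = 24 by omega] at h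
    have h3 : Nat.card (Sylow 5 Γ) ≠ 1 := by
      intro h
      haveI : Subsingleton (Sylow 5 Γ) := (Nat.card_eq_one_iff_unique.1 h).1
      haveI := P₀.normal_of_subsingleton
      -- all elements act on a group of order five
      let α : Γ →* MulAut ↥(P₀ : Subgroup Γ) := MulAut.conjNormal
      have hker : Nat.card ↥α.ker ∣ 5 := by
        have hle : α.ker ≤ zpowers (u : Γ) := fun w hw => by
          have hc := congrArg (fun ψ : MulAut ↥(P₀ : Subgroup Γ) => ((ψ u : ↥(P₀ : Subgroup Γ)) : Γ)) (MonoidHom.mem_ker.1 hw)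
          simp only [α, MulAut.conjNormal_apply, MulAut.one_apply] at hc
          have h5 := hcent (u : Γ) hu5 w (mul_inv_eq_iff_eq_mul.1 hc)
          have hp : IsPGroup 5 ↥(zpowers w) := fun x => ⟨1, by
            obtain ⟨i, hi⟩ := mem_zpowers_iff.1 x.2
            refine Subtype.ext ?_
            rw [pow_one, SubgroupClass.coe_pow, ← hi, ← zpow_natCast, ← zpow_mul, mul_comm, zpow_mul, zpow_natCast, h5,
              one_zpow]
            rfl⟩
          obtain ⟨R, hR⟩ := hp.exists_le_sylow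
          rw [hzu, ← Subsingleton.elim R P₀]
          exact hR (mem_zpowers w)
        have := card_dvd_of_le hle
        rwa [Nat.card_zpowers, hu5] at this
      have hr : Nat.card ↥α.range ≤ 4 := by
        refine (Nat.card_le_card_of_injective (fun ψ : ↥α.range =>
          (⟨(ψ : MulAut ↥(P₀ : Subgroup Γ)) u, fun e => ?_⟩ : {x : ↥(P₀ : Subgroup Γ) // x ≠ 1})) ?_).trans ?_
        · rw [MulEquiv.map_eq_one_iff] at e
          rw [e, orderOf_one] at hu
          omega
        · intro a b e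
          refine Subtype.ext (MulEquiv.ext fun x => ?_)
          obtain ⟨i, hi⟩ := mem_zpowers_iff.1 (show (x : Γ) ∈ zpowers (u : Γ) from hzu.ge x.2)
          have hx : x = u ^ i := Subtype.ext (by rw [SubgroupClass.coe_zpow]; exact hi.symm)
          rw [hx, map_zpow, map_zpow, Subtype.mk.inj e]
        · have := Set.ncard_compl ({1} : Set ↥(P₀ : Subgroup Γ))
          rw [Set.ncard_singleton, hP5] at this
          exact (le_of_eq (Nat.card_coe_set_eq _)).trans (le_of_eq (by exact this))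
      have h := α.ker.card_mul_index
      rw [index_ker, h120] at h
      have := Nat.le_of_dvd (by norm_num) hker
      nlinarith
    have key : ∀ d ∈ Nat.divisors 24, d % 5 = 1 → d ≠ 1 → d = 6 := by decide +kernel
    exact key _ (Nat.mem_divisors.2 ⟨h2, by norm_num⟩) h1 h3
  let ρ : Γ →* Equiv.Perm (Sylow 5 Γ) := MulAction.toPermHom Γ (Sylow 5 Γ)
  have hfix : ∀ w ∈ ρ.ker, ∀ P : Sylow 5 Γ, w • P = P := fun w hw P =>
    congrArg (fun σ : Equiv.Perm (Sylow 5 Γ) => σ P) (MonoidHom.mem_ker.1 hw)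
  have hkN : ∀ w ∈ ρ.ker, ∀ P : Sylow 5 Γ, w ∈ normalizer ((P : Subgroup Γ) : Set Γ) := fun w hw P =>
    Sylow.smul_eq_iff_mem_normalizer.1 (hfix w hw P)
  have hinj : Function.Injective ρ := by
    refine (injective_iff_map_eq_one ρ).2 fun w hw => ?_
    have hwk : w ∈ ρ.ker := MonoidHom.mem_ker.2 hw
    -- the kernel has order prime to five
    have h5k : ¬ 5 ∣ Nat.card ↥ρ.ker := by
      intro h
      obtain ⟨v, hv⟩ := exists_prime_orderOf_dvd_card' (G := ↥ρ.ker) 5 h
      have hv5 : orderOf (v : Γ) = 5 := by rw [Subgroup.orderOf_coe, hv]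
      obtain ⟨R, hR⟩ := (IsPGroup.of_card (p := 5) (n := 1)
        (by rw [Nat.card_zpowers, hv5, pow_one] : Nat.card ↥(zpowers (v : Γ)) = 5 ^ 1)).exists_le_sylow
      have hall : ∀ P : Sylow 5 Γ, P = R := fun P => by
        have hsup : IsPGroup 5 ↥((P : Subgroup Γ) ⊔ zpowers (v : Γ)) :=
          P.2.to_sup_of_normal_left' (IsPGroup.of_card (p := 5) (n := 1) (by rw [Nat.card_zpowers, hv5, pow_one]))
            (zpowers_le.2 (hkN _ v.2 P))
        have hle : zpowers (v : Γ) ≤ (P : Subgroup Γ) := le_sup_right.trans (P.3 hsup le_sup_left).le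
        have hz : ∀ S : Sylow 5 Γ, zpowers (v : Γ) ≤ (S : Subgroup Γ) → zpowers (v : Γ) = (S : Subgroup Γ) := fun S hS =>
          eq_of_le_of_card_ge hS (by rw [hP5, Nat.card_zpowers, hv5])
        exact Sylow.ext ((hz P hle).symm.trans (hz R hR))
      have : Nat.card (Sylow 5 Γ) = 1 := Nat.card_eq_one_iff_unique.2 ⟨⟨fun a b => (hall a).trans (hall b).symm⟩, ⟨R⟩⟩
      omega
    have hcomm : w * (u : Γ) = (u : Γ) * w := by
      have h1 : w * (u : Γ) * w⁻¹ * (u : Γ)⁻¹ ∈ ρ.ker := by
        rw [show w * (u : Γ) * w⁻¹ * (u : Γ)⁻¹ = w * ((u : Γ) * w⁻¹ * (u : Γ)⁻¹) by group]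
        exact mul_mem hwk ((inferInstance : ρ.ker.Normal).conj_mem _ (inv_mem hwk) _)
      have h2 : w * (u : Γ) * w⁻¹ * (u : Γ)⁻¹ ∈ (P₀ : Subgroup Γ) :=
        mul_mem ((mem_normalizer_iff.1 (hkN w hwk P₀) _).1 u.2) (inv_mem u.2)
      have h3 : (⟨_, h1⟩ : ↥ρ.ker) = 1 := by
        refine orderOf_eq_one_iff.1 (Nat.dvd_one.1 ?_)
        have ha := orderOf_dvd_natCard (⟨_, h1⟩ : ↥ρ.ker)
        have hb : orderOf (⟨_, h1⟩ : ↥ρ.ker) ∣ 5 := by
          rw [← Subgroup.orderOf_coe]
          have := Subgroup.orderOf_dvd_natCard _ h2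
          rwa [hP5] at this
        rcases (Nat.dvd_prime (by norm_num : Nat.Prime 5)).1 hb with e | e
        · rw [e]
        · rw [e] at ha
          exact absurd ha h5k
      exact mul_inv_eq_iff_eq_mul.1 (mul_inv_eq_one.1 (congrArg Subtype.val h3))
    have h5 := hcent _ hu5 w hcomm
    by_contra hne
    have h' := Subgroup.orderOf_dvd_natCard _ hwk
    rw [orderOf_eq_prime h5 hne] at h'
    exact h5k h'
  haveI : Fintype (Sylow 5 Γ) := Fintype.ofFinite _
  have h6 : Fintype.card (Sylow 5 Γ) = 6 := by rw [← Nat.card_eq_fintype_card, hn]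
  have hidx : ρ.range.index = Fintype.card (Sylow 5 Γ) := by
    have h := ρ.range.card_mul_index
    rw [← Nat.card_congr (MonoidHom.ofInjective hinj).toEquiv, h120, Nat.card_perm, Nat.card_eq_fintype_card, h6] at h
    norm_num [Nat.factorial] at h
    omega
  obtain ⟨φ, c, hc⟩ := CfsgLib.Classical22.exists_aut (by omega) hidx
  have hmap : ρ.range.map φ.toMonoidHom = MulAction.stabilizer (Equiv.Perm (Sylow 5 Γ)) c := by
    ext g
    constructor
    · rintro ⟨x, hx, rfl⟩
      exact (hc x).1 hx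
    · intro hg
      refine ⟨φ.symm g, (hc _).2 ?_, φ.apply_symm_apply g⟩
      rw [φ.apply_symm_apply]
      exact hg
  obtain ⟨e⟩ := six_stabilizer h6 c
  exact ⟨(MonoidHom.ofInjective hinj).trans ((φ.subgroupMap ρ.range).trans ((MulEquiv.subgroupCongr hmap).trans e))⟩

end CfsgLib.JankoFour.ThreeTwelve
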