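import Cfsg.Agent.Lib.SymRec.TwoInvol
import Cfsg.Agent.Lib.InvolChar.SubgroupsA8
import Cfsg.Agent.Lib.LargeFischer.ThreeTwelve.Split

/-!
# Extensions of the symmetric group of degree five by the linear group of degree three over two elements
-/

set_option autoImplicit false
set_option linter.style.haveILetI false

namespace CfsgLib.JankoFour.ThreeTwelve

open Subgroup

/-- The symmetric group of degree five. -/
abbrev S5 : Type := Equiv.Perm (Fin 5)

/-- The special linear group of degree three over two elements. -/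
abbrev L32 : Type := Matrix.SpecialLinearGroup (Fin 3) (ZMod 2)

theorem s5_card : Nat.card S5 = 120 := by
  rw [Nat.card_perm, Nat.card_eq_fintype_card, Fintype.card_fin]
  rfl

theorem l32_card : Nat.card L32 = 168 := by
  obtain ⟨e⟩ := CfsgLib.LargeFischer.Split.gl_equiv_sl
  rw [← Nat.card_congr e.toEquiv, CfsgLib.InvolChar.SubgroupsA8.gl3_card]

theorem l32_simple : IsSimpleGroup L32 := by
  obtain ⟨e⟩ := CfsgLib.LargeFischer.Split.gl_equiv_sl
  haveI := CfsgLib.InvolChar.SubgroupsA8.gl3_simple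
  exact e.symm.isSimpleGroup

theorem s5_center {σ : S5} (h : ∀ τ : S5, τ * σ = σ * τ) : σ = 1 := by
  by_contra hne
  obtain ⟨a, ha⟩ := not_forall.1 fun hall => hne (Equiv.ext hall)
  obtain ⟨c, hc⟩ : ∃ c, c ∉ ({a, σ a} : Finset (Fin 5)) := by
    by_contra hcon
    push Not at hcon
    have h1 := Finset.card_le_two (a := a) (b := σ a)
    rw [Finset.eq_univ_of_forall hcon, Finset.card_univ, Fintype.card_fin] at h1
    omega
  simp only [Finset.mem_insert, Finset.mem_singleton, not_or] at hc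
  have e := congrArg (fun π : S5 => π c) (h (Equiv.swap a c))
  simp only [Equiv.Perm.mul_apply, Equiv.swap_apply_right] at e
  have hσc : σ c ≠ σ a := fun e' => hc.1 (σ.injective e')
  by_cases hca : σ c = a
  · rw [hca, Equiv.swap_apply_left] at e
    exact hc.2 e
  · by_cases hcc : σ c = c
    · rw [hcc, Equiv.swap_apply_right] at e
      exact ha e.symm
    · rw [Equiv.swap_apply_of_ne_of_ne hca hcc] at e
      exact hσc e

/-- An extension with kernel the symmetric group of degree five is a direct product. -/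
theorem exists_prod {H : Type*} [Group H] [Finite H] (N : Subgroup H) [N.Normal] (e : ↥N ≃* S5)
    (f : H →* L32) (hf : Function.Surjective f) (hker : f.ker = N) :
    ∃ Φ : H →* S5 × L32, Function.Bijective Φ ∧ ∀ h, (Φ h).2 = f h := by
  classical
  have hinn : ∀ θ : MulAut S5, ∃ σ : S5, ∀ τ, θ τ = σ * τ * σ⁻¹ := fun θ => by
    obtain ⟨σ, hσ⟩ := CfsgLib.SymRec.perm_aut_inner (n := 5) (by norm_num) (by norm_num) θ
    exact ⟨σ, hσ⟩
  set α : H →* MulAut S5 := (MulAut.congr e).toMonoidHom.comp MulAut.conjNormal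
  have hα : ∀ h, ∃ σ : S5, α h = MulAut.conj σ := fun h => by
    obtain ⟨σ, hσ⟩ := hinn (α h)
    exact ⟨σ, MulEquiv.ext hσ⟩
  choose s hs using hα
  have hinj : Function.Injective (MulAut.conj : S5 →* MulAut S5) := (injective_iff_map_eq_one _).2 fun σ hσ =>
    s5_center fun τ => by
      have h1 := congrArg (fun θ : MulAut S5 => θ τ) hσ
      simp only [MulAut.conj_apply, MulAut.one_apply] at h1
      exact (mul_inv_eq_iff_eq_mul.1 h1).symm
  let S : H →* S5 := MonoidHom.mk' s fun a b => hinj (by rw [map_mul, ← hs, ← hs, ← hs, map_mul])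
  have hN : ∀ (n : H) (hn : n ∈ N), S n = e ⟨n, hn⟩ := fun n hn => by
    refine hinj ((hs n).symm.trans (MulEquiv.ext fun τ => ?_))
    show e (MulAut.conjNormal n (e.symm τ)) = e ⟨n, hn⟩ * τ * (e ⟨n, hn⟩)⁻¹
    rw [show MulAut.conjNormal n (e.symm τ) = ⟨n, hn⟩ * e.symm τ * (⟨n, hn⟩ : ↥N)⁻¹ from
      Subtype.ext (MulAut.conjNormal_apply _ _), map_mul, map_mul, map_inv, MulEquiv.apply_symm_apply]
  refine ⟨S.prod f, ⟨(injective_iff_map_eq_one _).2 fun h hh => ?_, fun ⟨σ, l⟩ => ?_⟩, fun h => rfl⟩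
  · have hn : h ∈ N := hker ▸ MonoidHom.mem_ker.2 (congrArg Prod.snd hh)
    have h1 : S h = 1 := congrArg Prod.fst hh
    rw [hN h hn] at h1
    exact congrArg Subtype.val (e.injective (h1.trans (map_one e).symm))
  · obtain ⟨h, rfl⟩ := hf l
    set m := e.symm ((S h)⁻¹ * σ) with hm
    refine ⟨h * (m : H), Prod.ext ?_ ?_⟩
    · show S (h * (m : H)) = σ
      rw [map_mul, hN _ m.2, hm, MulEquiv.apply_symm_apply, mul_inv_cancel_left]
    · show f (h * (m : H)) = f h
      rw [map_mul, MonoidHom.mem_ker.1 (hker ▸ m.2 : (m : H) ∈ f.ker), mul_one]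

/-- A normal two-subgroup of the symmetric group of degree five is trivial. -/
theorem s5_two_bot {T : Subgroup S5} [hn : T.Normal] (h2 : IsPGroup 2 ↥T) : T = ⊥ := by
  haveI : Fact (Nat.Prime 2) := ⟨Nat.prime_two⟩
  by_contra hne
  have e := Equiv.Perm.alternatingGroup_le_of_normal (α := Fin 5) (by simp) (T.nontrivial_iff_ne_bot.2 hne)
  obtain ⟨k, hk⟩ := IsPGroup.iff_card.1 h2
  have hd := card_dvd_of_le e
  rw [hk, Nat.card_eq_fintype_card, card_alternatingGroup, Fintype.card_fin] at hd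
  have h3 : 3 ∣ 2 ^ k := (show 3 ∣ Nat.factorial 5 / 2 by decide).trans hd
  have := Nat.prime_three.dvd_of_dvd_pow h3
  omega

/-- A normal two-subgroup of the product is trivial. -/
theorem prod_two_bot {P : Subgroup (S5 × L32)} [hP : P.Normal] (h2 : IsPGroup 2 ↥P) : P = ⊥ := by
  haveI := l32_simple
  haveI : Fact (Nat.Prime 2) := ⟨Nat.prime_two⟩
  have hb : P.map (MonoidHom.snd S5 L32) = ⊥ := by
    have hn : (P.map (MonoidHom.snd S5 L32)).Normal := hP.map _ fun l => ⟨(1, l), rfl⟩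
    refine hn.eq_bot_or_eq_top.resolve_right fun e => ?_
    obtain ⟨k, hk⟩ := IsPGroup.iff_card.1 ((h2.map (MonoidHom.snd S5 L32)).of_equiv
      ((MulEquiv.subgroupCongr e).trans Subgroup.topEquiv))
    rw [l32_card] at hk
    have h7 : 7 ∣ 2 ^ k := ⟨24, hk.symm⟩
    have := (show Nat.Prime 7 by norm_num).dvd_of_dvd_pow h7
    omega
  set T := P.map (MonoidHom.fst S5 L32) with hT
  haveI : T.Normal := hP.map _ fun σ => ⟨(σ, 1), rfl⟩
  have hTb : T = ⊥ := s5_two_bot (h2.map _)
  refine (eq_bot_iff_forall _).2 fun p hp => Prod.ext ?_ ?_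
  · exact mem_bot.1 (hTb ▸ ⟨p, hp, rfl⟩ : p.1 ∈ (⊥ : Subgroup S5))
  · exact mem_bot.1 (hb ▸ ⟨p, hp, rfl⟩ : p.2 ∈ (⊥ : Subgroup L32))

end CfsgLib.JankoFour.ThreeTwelve
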