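import Cfsg.Agent.Lib.JankoFour.ThreeTwelve.Five
import Cfsg.Agent.Lib.JankoFour.ThreeTwelve.Split

/-!
# Normalisers of small Sylow groups in the product and counting through a map with two-group kernel
-/

set_option autoImplicit false
set_option linter.style.haveILetI false

namespace CfsgLib.JankoFour.ThreeTwelve

open Subgroup

/-- The index of the normaliser of a Sylow group of prime order. -/
theorem prime_norm_index {X : Type*} [Group X] [Finite X] {p m : ℕ} [Fact p.Prime] (hX : Nat.card X = p * m)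
    (hm : ¬ p ∣ m) (P : Subgroup X) (hP : Nat.card ↥P = p) :
    (normalizer (P : Set X)).index ∣ m ∧ (normalizer (P : Set X)).index % p = 1 % p := by
  have hp : p.Prime := Fact.out
  have hm0 : m ≠ 0 := fun e => hm (e ▸ dvd_zero p)
  have hfac : p ^ (Nat.card X).factorization p = p := by
    rw [hX, Nat.factorization_mul hp.ne_zero hm0, Finsupp.add_apply, hp.factorization_self,
      Nat.factorization_eq_zero_of_not_dvd hm, add_zero, pow_one]
  let S : Sylow p X := Sylow.ofCard P (by rw [hP, hfac])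
  refine ⟨?_, ?_⟩
  · have h1 := P.card_mul_index
    rw [hP, hX] at h1
    rw [← (Nat.eq_of_mul_eq_mul_left hp.pos h1)]
    exact index_dvd_of_le le_normalizer
  · have h1 : Nat.card (Sylow p X) = (normalizer (P : Set X)).index := S.card_eq_index_normalizer
    rw [← h1]
    exact card_sylow_modEq_one p X

/-- The normaliser of a group of order five in the symmetric group of degree five. -/
theorem s5_five_norm {P : Subgroup S5} (hP : Nat.card ↥P = 5) : Nat.card ↥(normalizer (P : Set S5)) = 20 := by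
  haveI : Fact (Nat.Prime 5) := ⟨by norm_num⟩
  obtain ⟨h1, h2⟩ := prime_norm_index (m := 24) (by rw [s5_card]) (by norm_num) P hP
  have hne : (normalizer (P : Set S5)).index ≠ 1 := fun e => by
    haveI : P.Normal := normalizer_eq_top_iff.1 (index_eq_one.1 e)
    have hT : P ≠ ⊥ := fun e' => by rw [e', card_bot] at hP; omega
    have h := card_dvd_of_le (Equiv.Perm.alternatingGroup_le_of_normal (α := Fin 5) (by simp)
      (P.nontrivial_iff_ne_bot.2 hT))
    rw [hP, Nat.card_eq_fintype_card, card_alternatingGroup, Fintype.card_fin] at h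
    exact absurd (Nat.le_of_dvd (by norm_num) h) (by decide)
  have h3 := (normalizer (P : Set S5)).card_mul_index
  rw [s5_card] at h3
  have hle := Nat.le_of_dvd (by norm_num) h1
  generalize (normalizer (P : Set S5)).index = i at h1 h2 h3 hne hle
  interval_cases i <;> omega

/-- The normaliser of a group of order seven in the linear group. -/
theorem l32_seven_norm {P : Subgroup L32} (hP : Nat.card ↥P = 7) : Nat.card ↥(normalizer (P : Set L32)) = 21 := by
  haveI := l32_simple
  haveI : Fact (Nat.Prime 7) := ⟨by norm_num⟩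
  obtain ⟨h1, h2⟩ := prime_norm_index (m := 24) (by rw [l32_card]) (by norm_num) P hP
  have hne : (normalizer (P : Set L32)).index ≠ 1 := fun e => by
    haveI hn : P.Normal := normalizer_eq_top_iff.1 (index_eq_one.1 e)
    rcases hn.eq_bot_or_eq_top with e' | e'
    · rw [e', card_bot] at hP; omega
    · rw [e', card_top, l32_card] at hP; omega
  have h3 := (normalizer (P : Set L32)).card_mul_index
  rw [l32_card] at h3
  have hle := Nat.le_of_dvd (by norm_num) h1
  generalize (normalizer (P : Set L32)).index = i at h1 h2 h3 hne hle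
  interval_cases i <;> omega

/-- The centraliser of an element of order three in the symmetric group of degree five is abelian. -/
theorem s5_three_comm : ∀ τ : S5, τ ^ 3 = 1 → τ ≠ 1 → ∀ a : S5, a * τ = τ * a → ∀ b : S5, b * τ = τ * b →
    a * b = b * a := by
  decide +kernel

/-- The symmetric group of degree five has no subgroup of order forty. -/
theorem s5_forty (W : Subgroup S5) : Nat.card ↥W ≠ 40 := fun h => by
  have hi : W.index = 3 := by
    have h1 := W.card_mul_index
    rw [h, s5_card] at h1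
    omega
  have hd : W.normalCore.index ∣ 6 := by
    have h1 : (MulAction.toPermHom S5 (S5 ⧸ W)).ker.index = Nat.card ↥(MulAction.toPermHom S5 (S5 ⧸ W)).range :=
      index_ker _
    rw [← normalCore_eq_ker] at h1
    have h2 := card_subgroup_dvd_card (MulAction.toPermHom S5 (S5 ⧸ W)).range
    rw [Nat.card_perm, ← index_eq_card, hi] at h2
    rw [h1]
    exact h2
  have hne : W.normalCore ≠ ⊥ := fun e => by
    rw [e, index_bot, s5_card] at hd
    exact absurd (Nat.le_of_dvd (by norm_num) hd) (by norm_num)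
  have h1 := card_dvd_of_le ((Equiv.Perm.alternatingGroup_le_of_normal (α := Fin 5) (by simp)
    (W.normalCore.nontrivial_iff_ne_bot.2 hne)).trans W.normalCore_le)
  rw [h, Nat.card_eq_fintype_card, card_alternatingGroup, Fintype.card_fin] at h1
  exact absurd (Nat.le_of_dvd (by norm_num) h1) (by decide)

/-- Lower bound for the part of a normaliser in a subgroup mapped onto another group. -/
theorem norm_count {G X : Type*} [Group G] [Finite G] [Group X] [Finite X] {p : ℕ} [Fact p.Prime]
    {L R : Subgroup G} (hRL : R ≤ L) (Φ : ↥L →* X) (hΦ : Function.Surjective Φ)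
    (hk : ∀ w : ↥L, Φ w = 1 ↔ (w : G) ∈ R) (hR : ¬ p ∣ Nat.card ↥R) {S : Subgroup G} (hS : Nat.card ↥S = p)
    (hSL : S ≤ L) :
    Nat.card ↥(R ⊓ centralizer (S : Set G)) *
        Nat.card ↥(normalizer (((S.subgroupOf L).map Φ : Subgroup X) : Set X)) ≤
      Nat.card ↥(normalizer (S : Set G) ⊓ L) := by
  set S' := S.subgroupOf L with hS'
  have hS'c : Nat.card ↥S' = p := by rw [hS', Nat.card_congr (subgroupOfEquivOfLe hSL).toEquiv, hS]
  have hkc : Nat.card ↥Φ.ker = Nat.card ↥R := by
    rw [show Φ.ker = R.subgroupOf L from Subgroup.ext hk, Nat.card_congr (subgroupOfEquivOfLe hRL).toEquiv]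
  set T := normalizer ((S'.map Φ : Subgroup X) : Set X)
  let ν : ↥(normalizer (S' : Set ↥L)) →* ↥T := (Φ.comp (normalizer (S' : Set ↥L)).subtype).codRestrict T fun w =>
    le_normalizer_map Φ ⟨w, w.2, rfl⟩
  have hν : Function.Surjective ν := by
    rintro ⟨t, ht⟩
    obtain ⟨w, hw, rfl⟩ := lift_normalizer Φ hΦ (hkc ▸ hR) S' hS'c ht
    exact ⟨⟨w, hw⟩, rfl⟩
  have h := ν.ker.card_mul_index
  rw [index_ker, MonoidHom.range_eq_top.2 hν, card_top] at h
  have hle : Nat.card ↥(R ⊓ centralizer (S : Set G)) ≤ Nat.card ↥ν.ker := by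
    refine Nat.card_le_card_of_injective (fun r => ⟨⟨⟨r, hRL r.2.1⟩, centralizer_le_normalizer _
      (mem_centralizer_iff.2 fun s hs => Subtype.ext (mem_centralizer_iff.1 r.2.2 s hs))⟩,
      Subtype.ext ((hk _).2 r.2.1)⟩) fun a b e => Subtype.ext ?_
    exact congrArg (fun w : ↥ν.ker => ((w.1.1 : ↥L) : G)) e
  refine (Nat.mul_le_mul_right _ hle).trans (h.le.trans ?_)
  refine Nat.card_le_card_of_injective (fun w => ⟨((w.1 : ↥L) : G), ?_, (w.1 : ↥L).2⟩) fun a b e =>
    Subtype.ext (Subtype.ext (congrArg Subtype.val e :))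
  show _ ∈ normalizer (S : Set G)
  rw [mem_normalizer_iff_map_conj_eq]
  refine eq_of_le_of_card_ge ?_ (le_of_eq (card_map_of_injective (MulEquiv.injective _)).symm)
  rintro _ ⟨s, hs, rfl⟩
  exact (mem_normalizer_iff.1 w.2 ⟨s, hSL hs⟩).1 hs

/-- The image of a group of prime order not dividing the kernel. -/
theorem map_card {G X : Type*} [Group G] [Finite G] [Group X] [Finite X] {p : ℕ} [Fact p.Prime]
    {L R : Subgroup G} (Φ : ↥L →* X) (hk : ∀ w : ↥L, Φ w = 1 ↔ (w : G) ∈ R) (hR : ¬ p ∣ Nat.card ↥R)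
    {S : Subgroup G} (hS : Nat.card ↥S = p) (hSL : S ≤ L) : Nat.card ↥((S.subgroupOf L).map Φ) = p := by
  have hS'c : Nat.card ↥(S.subgroupOf L) = p := by rw [Nat.card_congr (subgroupOfEquivOfLe hSL).toEquiv, hS]
  have hd := card_map_dvd (S.subgroupOf L) Φ
  rw [hS'c] at hd
  refine ((Nat.dvd_prime (Fact.out : p.Prime)).1 hd).resolve_left fun h1 => hR ?_
  rw [← hS]
  refine card_dvd_of_le fun s hs => (hk ⟨s, hSL hs⟩).1 ?_
  have := (card_eq_one.1 h1).le ⟨⟨s, hSL hs⟩, hs, rfl⟩
  rwa [mem_bot] at this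

/-- Lower bound for the normaliser of a group in the first factor. -/
theorem prod_norm_five {T : Subgroup (S5 × L32)} (hT : Nat.card ↥T = 5) (hsnd : ∀ t ∈ T, t.2 = 1) :
    3360 ≤ Nat.card ↥(normalizer (T : Set (S5 × L32))) := by
  set P := T.map (MonoidHom.fst S5 L32) with hP
  have hPc : Nat.card ↥P = 5 := by
    refine Eq.trans (Nat.card_congr (Equiv.ofBijective (fun t : ↥T => (⟨t.1.1, t.1, t.2, rfl⟩ : ↥P)) ⟨?_, ?_⟩)).symm hT
    · intro a b e
      exact Subtype.ext (Prod.ext (congrArg Subtype.val e :) ((hsnd _ a.2).trans (hsnd _ b.2).symm))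
    · rintro ⟨_, t, ht, rfl⟩
      exact ⟨⟨t, ht⟩, rfl⟩
  have hTP : T = P.prod ⊥ := by
    ext ⟨σ, l⟩
    rw [mem_prod, mem_bot]
    constructor
    · intro h
      exact ⟨⟨_, h, rfl⟩, hsnd _ h⟩
    · rintro ⟨⟨t, ht, e⟩, rfl⟩
      have e' : t = (σ, (1 : L32)) := Prod.ext e (hsnd t ht)
      rwa [e'] at ht
  have hle : (normalizer (P : Set S5)).prod ⊤ ≤ normalizer (T : Set (S5 × L32)) := by
    rintro ⟨a, b⟩ ⟨ha, -⟩
    rw [mem_normalizer_iff, hTP]
    rintro ⟨σ, l⟩
    simp only [mem_prod, mem_bot, Prod.mk_mul_mk, Prod.inv_mk, conj_eq_one_iff]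
    exact and_congr (mem_normalizer_iff.1 ha σ) Iff.rfl
  have h := card_le_of_le hle
  rw [Nat.card_congr (prodEquiv _ _).toEquiv, Nat.card_prod, s5_five_norm hPc, card_top, l32_card] at h
  exact h

/-- Lower bound for the normaliser of a group in the second factor. -/
theorem prod_norm_seven {T : Subgroup (S5 × L32)} (hT : Nat.card ↥T = 7) :
    2520 ≤ Nat.card ↥(normalizer (T : Set (S5 × L32))) := by
  have hfst : ∀ t ∈ T, t.1 = 1 := fun t ht => by
    have h1 : orderOf t ∣ 7 := hT ▸ Subgroup.orderOf_dvd_natCard T ht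
    have h2 : orderOf t.1 ∣ orderOf t := orderOf_map_dvd (MonoidHom.fst S5 L32) t
    have h3 : orderOf t.1 ∣ 120 := s5_card ▸ orderOf_dvd_natCard t.1
    have h4 := Nat.dvd_gcd (h2.trans h1) h3
    rwa [show Nat.gcd 7 120 = 1 by rfl, Nat.dvd_one, orderOf_eq_one_iff] at h4
  set P := T.map (MonoidHom.snd S5 L32) with hP
  have hPc : Nat.card ↥P = 7 := by
    refine Eq.trans (Nat.card_congr (Equiv.ofBijective (fun t : ↥T => (⟨t.1.2, t.1, t.2, rfl⟩ : ↥P)) ⟨?_, ?_⟩)).symm hT
    · intro a b e
      exact Subtype.ext (Prod.ext ((hfst _ a.2).trans (hfst _ b.2).symm) (congrArg Subtype.val e :))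
    · rintro ⟨_, t, ht, rfl⟩
      exact ⟨⟨t, ht⟩, rfl⟩
  have hTP : T = (⊥ : Subgroup S5).prod P := by
    ext ⟨σ, l⟩
    rw [mem_prod, mem_bot]
    constructor
    · intro h
      exact ⟨hfst _ h, ⟨_, h, rfl⟩⟩
    · rintro ⟨rfl, t, ht, e⟩
      have e' : t = ((1 : S5), l) := Prod.ext (hfst t ht) e
      rwa [e'] at ht
  have hle : (⊤ : Subgroup S5).prod (normalizer (P : Set L32)) ≤ normalizer (T : Set (S5 × L32)) := by
    rintro ⟨a, b⟩ ⟨-, hb⟩
    rw [mem_normalizer_iff, hTP]
    rintro ⟨σ, l⟩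
    simp only [mem_prod, mem_bot, Prod.mk_mul_mk, Prod.inv_mk, conj_eq_one_iff]
    exact and_congr Iff.rfl (mem_normalizer_iff.1 hb l)
  have h := card_le_of_le hle
  rw [Nat.card_congr (prodEquiv _ _).toEquiv, Nat.card_prod, l32_seven_norm hPc, card_top, s5_card] at h
  exact h

end CfsgLib.JankoFour.ThreeTwelve
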