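import Cfsg.Agent.Lib.JankoFour.Big
import Cfsg.Agent.Lib.JankoFour.ThreeTwelve.Five
import Cfsg.Agent.Lib.MTwentyTwoUnique.Concrete

/-!
# The line of a central vector and the part of its stabiliser of index two
-/

set_option autoImplicit false
set_option linter.unusedSectionVars false
set_option linter.style.haveILetI false

namespace CfsgLib.JankoFour.ThreeTwelve

open Subgroup QuadraticMap
open CfsgLib.LargeFischer (CentData vadd_self eq_of_vadd z2_cases perpSub perpSub_card)

variable {V : Type*} [AddCommGroup V] [Module (ZMod 2) V] [Finite V]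
  {K : Type*} [Group K] [Finite K] [DistribMulAction K V]

/-- The four vectors of a line. -/
def InLine (n : K) (s v : V) : Prop := v = 0 ∨ v = s ∨ v = n • s ∨ v = n • n • s

/-- A central vector with its data. -/
structure LineData (q : QuadraticForm (ZMod 2) V) (n : K) (M : Subgroup K) (φ : ↥M →* ↥Cfsg.Spor.M22) (s : V)
    (E : Subgroup K) (D : AddSubgroup V) : Prop where
  core : Core q n M φ
  facts : Facts q n M
  cls : Class q K s
  dat : CentData q s E D

namespace LineData

variable {q : QuadraticForm (ZMod 2) V} {n : K} {M : Subgroup K} {φ : ↥M →* ↥Cfsg.Spor.M22} {s : V}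
  {E : Subgroup K} {D : AddSubgroup V} (l : LineData q n M φ s E D)

include l

theorem M_normal : M.Normal := Subgroup.normal_of_index_eq_two l.core.indexM

theorem zn_le : zpowers n ≤ M := zpowers_le.2 l.core.nM

theorem card_K : Nat.card K = 2661120 := by
  have h := φ.ker.card_mul_index
  rw [index_ker, MonoidHom.range_eq_top.2 l.core.surj, card_top, CfsgLib.Golay.card_sporM22] at h
  have hk : Nat.card ↥φ.ker = 3 := by
    rw [show φ.ker = (zpowers n).subgroupOf M from Subgroup.ext fun m => l.core.ker m,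
      Nat.card_congr (subgroupOfEquivOfLe l.zn_le).toEquiv, l.core.card_zn]
  have h2 := M.card_mul_index
  rw [l.core.indexM, ← h, hk] at h2
  omega

theorem line_distinct : n • s ≠ s ∧ n • n • s ≠ s ∧ n • n • s ≠ n • s ∧ s + n • s = n • n • s ∧
    n • n • n • s = s := by
  have h1 := l.core.smul_n_ne l.cls.ne
  refine ⟨h1, fun h => h1 ?_, fun h => h1 (MulAction.injective n h), (l.core.n_quad s).symm, l.core.smul_n_three s⟩
  calc n • s = n • n • n • s := by rw [h]
    _ = s := l.core.smul_n_three s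

theorem ns_ne : n • s ≠ 0 := l.core.smul_ne_zero _ l.cls.ne

theorem inLine_add {a b : V} (ha : InLine n s a) (hb : InLine n s b) : InLine n s (a + b) := by
  have e : s + n • s = n • n • s := l.line_distinct.2.2.2.1
  have e1 : s + n • n • s = n • s := by rw [← e, ← add_assoc, vadd_self, zero_add]
  have e2 : n • s + n • n • s = s := by rw [← e, add_left_comm, vadd_self, add_zero]
  rcases ha with rfl | rfl | rfl | rfl <;> rcases hb with rfl | rfl | rfl | rfl
  all_goals unfold InLine
  all_goals first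
    | simp only [zero_add, add_zero, true_or, or_true]
    | simp only [vadd_self, true_or]
    | simp only [e, or_true]
    | simp only [e1, or_true, true_or]
    | simp only [e2, or_true, true_or]
    | (rw [add_comm]; simp only [e, e1, e2, or_true, true_or])

/-- Elements outside `M` invert `n`. -/
theorem conj_n_outer {u : K} (hu : u ∉ M) : u * n * u⁻¹ = n * n := by
  obtain ⟨k, hk⟩ := l.core.outer
  have hkM : k ∉ M := fun h => hk (l.core.commute k h)
  have hm : u * k⁻¹ ∈ M := by
    have := (mul_mem_iff_of_index_two l.core.indexM (a := u) (b := k⁻¹))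
    simp only [inv_mem_iff] at this
    exact this.2 (iff_of_false hu hkM)
  have hkn : k * n * k⁻¹ = n * n := by
    rcases l.core.zn_cases (l.core.normal k) with e | e | e
    · exact absurd (conj_eq_one_iff.1 e) l.core.n_ne
    · exact absurd (mul_inv_eq_iff_eq_mul.1 e) hk
    · exact e
  have hc : ∀ x, x = n * n → (u * k⁻¹) * x * (u * k⁻¹)⁻¹ = x := fun x hx => by
    rw [hx, show (u * k⁻¹) * (n * n) = n * n * (u * k⁻¹) by
      rw [← mul_assoc, l.core.commute _ hm, mul_assoc, l.core.commute _ hm, ← mul_assoc], mul_inv_cancel_right]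
  calc u * n * u⁻¹ = (u * k⁻¹) * (k * n * k⁻¹) * (u * k⁻¹)⁻¹ := by group
    _ = n * n := by rw [hkn, hc _ rfl]

theorem conj_n (k : K) : k * n * k⁻¹ = n ∨ k * n * k⁻¹ = n * n := by
  by_cases hk : k ∈ M
  · exact Or.inl (by rw [l.core.commute k hk, mul_inv_cancel_right])
  · exact Or.inr (l.conj_n_outer hk)

theorem smul_n (k : K) (v : V) : k • n • v = n • k • v ∨ k • n • v = n • n • k • v := by
  rcases l.conj_n k with h | h
  · left; rw [← mul_smul, ← mul_smul, mul_inv_eq_iff_eq_mul.1 h]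
  · right; rw [← mul_smul, ← mul_smul, ← mul_smul, mul_inv_eq_iff_eq_mul.1 h]

theorem smul_n_M {k : K} (hk : k ∈ M) (v : V) : k • n • v = n • k • v := by
  rw [← mul_smul, l.core.commute k hk, mul_smul]

/-- An element fixes the central vector and its translate iff it lies in `M` and fixes the central vector. -/
theorem fix_pair {k : K} :
    (k • s = s ∧ k • n • s = n • s) ↔ k ∈ MulAction.stabilizer K s ⊓ M := by
  obtain ⟨-, -, h3, -, -⟩ := l.line_distinct
  constructor
  · rintro ⟨hk, hkn⟩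
    refine ⟨hk, ?_⟩
    by_contra hkM
    apply h3
    rw [← mul_smul, mul_inv_eq_iff_eq_mul.1 (l.conj_n_outer hkM), mul_smul, mul_smul, hk] at hkn
    exact hkn
  · rintro ⟨hk, hkM⟩
    exact ⟨hk, by rw [l.smul_n_M hkM, hk]⟩

theorem line_mul {a b : K} (ha : a • s = s ∨ a • s = n • s ∨ a • s = n • n • s)
    (hb : b • s = s ∨ b • s = n • s ∨ b • s = n • n • s) :
    (a * b) • s = s ∨ (a * b) • s = n • s ∨ (a * b) • s = n • n • s := by
  obtain ⟨-, -, -, -, e3⟩ := l.line_distinct
  have hcl : ∀ w : V, (w = s ∨ w = n • s ∨ w = n • n • s) →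
      (n • w = s ∨ n • w = n • s ∨ n • w = n • n • s) := by
    rintro w (rfl | rfl | rfl)
    exacts [Or.inr (Or.inl rfl), Or.inr (Or.inr rfl), Or.inl e3]
  have ha1 : a • n • s = s ∨ a • n • s = n • s ∨ a • n • s = n • n • s := by
    rcases l.smul_n a s with h | h <;> rw [h]
    exacts [hcl _ ha, hcl _ (hcl _ ha)]
  have ha2 : a • n • n • s = s ∨ a • n • n • s = n • s ∨ a • n • n • s = n • n • s := by
    rcases l.smul_n a (n • s) with h | h <;> rw [h]
    exacts [hcl _ ha1, hcl _ (hcl _ ha1)]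
  rw [mul_smul]
  rcases hb with e | e | e <;> rw [e]
  exacts [ha, ha1, ha2]

/-- The subgroup preserving the line. -/
def lineStab : Subgroup K where
  carrier := {k | k • s = s ∨ k • s = n • s ∨ k • s = n • n • s}
  one_mem' := Or.inl (one_smul K s)
  mul_mem' := fun ha hb => l.line_mul ha hb
  inv_mem' := by
    intro a ha
    have key : ∀ k : ℕ, (a ^ k) • s = s ∨ (a ^ k) • s = n • s ∨ (a ^ k) • s = n • n • s := by
      intro k
      induction k with
      | zero => exact Or.inl (by rw [pow_zero, one_smul])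
      | succ k ih =>
        rw [pow_succ]
        exact l.line_mul ih ha
    have he : a⁻¹ = a ^ (orderOf a - 1) := by
      refine inv_eq_of_mul_eq_one_right ?_
      rw [← pow_succ', Nat.sub_add_cancel (orderOf_pos a), pow_orderOf_eq_one]
    show a⁻¹ • s = s ∨ a⁻¹ • s = n • s ∨ a⁻¹ • s = n • n • s
    rw [he]
    exact key _

theorem stab_card : Nat.card ↥(MulAction.stabilizer K s) = 3840 := by
  have h := (MulAction.stabilizer K s).card_mul_index
  rw [MulAction.index_stabilizer, l.cls.card, l.card_K] at h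
  omega

theorem lineStab_card : Nat.card ↥l.lineStab = 11520 := by
  set L := l.lineStab
  have horb : MulAction.orbit ↥L s = {s, n • s, n • n • s} := by
    ext v
    constructor
    · rintro ⟨⟨k, hk⟩, rfl⟩
      rcases hk with e | e | e
      · exact Or.inl e
      · exact Or.inr (Or.inl e)
      · exact Or.inr (Or.inr e)
    · rintro (rfl | rfl | rfl)
      · exact MulAction.mem_orbit_self v
      · exact ⟨⟨n, Or.inr (Or.inl rfl)⟩, rfl⟩
      · exact ⟨⟨n * n, Or.inr (Or.inr (mul_smul n n s))⟩, mul_smul n n s⟩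
  obtain ⟨h1, h2, h3, -, -⟩ := l.line_distinct
  have h3' : (MulAction.orbit ↥L s).ncard = 3 :=
    Set.ncard_eq_three.2 ⟨_, _, _, h1.symm, h2.symm, h3.symm, horb⟩
  have hst : Nat.card ↥(MulAction.stabilizer ↥L s) = Nat.card ↥(MulAction.stabilizer K s) :=
    Nat.card_congr
      { toFun := fun k => ⟨(k : ↥L), k.2⟩
        invFun := fun k => ⟨⟨k, Or.inl k.2⟩, k.2⟩
        left_inv := fun k => rfl
        right_inv := fun k => rfl }
  have h := (MulAction.stabilizer ↥L s).card_mul_index
  rw [MulAction.index_stabilizer, h3', hst, l.stab_card] at h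
  omega

theorem polar_D {d d' : V} (h : d ∈ D) (h' : d' ∈ D) : polar q d d' = 0 := by
  rw [polar, l.dat.sing _ (D.add_mem h h'), l.dat.sing _ h, l.dat.sing _ h']; ring

theorem E_le_stab : E ≤ MulAction.stabilizer K s := fun e he => l.dat.fix e he

theorem elemM : Cfsg.IsElementaryAbelian 2 (E ⊓ M) :=
  ⟨⟨⟨fun a b => Subtype.ext (congrArg (fun y : ↥E => (y : K)) (l.dat.elem.1.is_comm.comm ⟨a, a.2.1⟩ ⟨b, b.2.1⟩))⟩⟩,
    fun a ha => l.dat.elem.2 a ha.1⟩

theorem data_cards : Nat.card ↥E = 32 ∧ Nat.card ↥D = 64 ∧ Nat.card ↥(E ⊓ M) = 16 ∧ ¬ E ≤ M := by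
  have hDle : Nat.card ↥D ≤ 64 := by
    have h := perpSub_card q l.core.nondeg D
    have hle : Nat.card ↥D ≤ Nat.card ↥(perpSub q D) :=
      Nat.le_of_dvd Nat.card_pos (AddSubgroup.card_dvd_of_le fun d hd' u hu => l.polar_D hd' hu)
    rw [l.core.cardV] at h
    norm_num at h
    nlinarith
  have hE := l.dat.card
  norm_num at hE
  have hEge : 32 ≤ Nat.card ↥E := by nlinarith
  have h0 : Nat.card ↥(E ⊓ M) ≤ 16 := l.facts.elem_le _ inf_le_right l.elemM
  have hrel : (E ⊓ M).relIndex E ≤ 2 := by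
    haveI := l.M_normal
    have := relIndex_dvd_index_of_normal M E
    rw [l.core.indexM] at this
    rw [inf_relIndex_left]
    exact Nat.le_of_dvd (by norm_num) this
  have hmul : (E ⊓ M).relIndex E * Nat.card ↥(E ⊓ M) = Nat.card ↥E := by
    have h := relIndex_mul_relIndex ⊥ (E ⊓ M) E bot_le inf_le_left
    simp only [relIndex_bot_left] at h
    rw [mul_comm]; exact h
  have hE32 : Nat.card ↥E = 32 := le_antisymm (by nlinarith) hEge
  refine ⟨hE32, by rw [hE32] at hE; omega, ?_, fun hle => ?_⟩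
  · nlinarith
  · have := l.facts.elem_le _ hle l.dat.elem
    omega

theorem Y_card : Nat.card ↥(MulAction.stabilizer K s ⊓ M) = 1920 := by
  obtain ⟨e, he, heM⟩ := SetLike.not_le_iff_exists.1 l.data_cards.2.2.2
  have h : (MulAction.stabilizer K s ⊓ M).relIndex (MulAction.stabilizer K s) = 2 := by
    haveI := l.M_normal
    have h' := relIndex_dvd_index_of_normal M (MulAction.stabilizer K s)
    rw [l.core.indexM, Nat.dvd_prime Nat.prime_two] at h'
    rw [inf_relIndex_left]
    exact h'.resolve_left fun h1 => heM (relIndex_eq_one.1 h1 (l.E_le_stab he))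
  have h2 := relIndex_mul_relIndex ⊥ (MulAction.stabilizer K s ⊓ M) (MulAction.stabilizer K s) bot_le inf_le_left
  simp only [relIndex_bot_left, h, l.stab_card] at h2
  omega

theorem norm_E0 {y : K} (hy : y • s = s) {a : K} (ha : a ∈ E ⊓ M) : y * a * y⁻¹ ∈ E ⊓ M :=
  ⟨l.dat.normal y hy a ha.1, l.M_normal.conj_mem a ha.2 y⟩

theorem stab_inj {w : K} (hw : w ∈ MulAction.stabilizer K s ⊓ M) (h : φ ⟨w, hw.2⟩ = 1) : w = 1 := by
  rcases l.core.zn_cases ((l.core.ker _).1 h) with e | e | e
  · exact e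
  · exact absurd (show n • s = s from e ▸ hw.1) (l.core.smul_n_ne l.cls.ne)
  · exfalso
    have h' : (n * n) • s = s := e ▸ hw.1
    rw [mul_smul] at h'
    exact l.line_distinct.2.1 h'

/-- An element commuting with an element of order five in the stabiliser has order dividing five. -/
theorem cent_five {u w : K} (hu : u ∈ MulAction.stabilizer K s ⊓ M) (hu5 : orderOf u = 5)
    (hw : w ∈ MulAction.stabilizer K s ⊓ M) (hc : w * u = u * w) : w ^ 5 = 1 := by
  haveI : Fact (Nat.Prime 5) := ⟨by norm_num⟩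
  have hu' : orderOf (φ ⟨u, hu.2⟩) = 5 := by
    refine orderOf_eq_prime ?_ fun h => ?_
    · rw [← map_pow, show (⟨u, hu.2⟩ : ↥M) ^ 5 = 1 from Subtype.ext (by simp [← hu5, pow_orderOf_eq_one]), map_one]
    · have := l.stab_inj hu h
      rw [this, orderOf_one] at hu5
      norm_num at hu5
  have hw' : φ ⟨w, hw.2⟩ ∈ centralizer ({φ ⟨u, hu.2⟩} : Set ↥Cfsg.Spor.M22) :=
    mem_centralizer_singleton_iff.2 (by rw [← map_mul, ← map_mul]; exact congrArg φ (Subtype.ext hc))
  have h5 := Subgroup.orderOf_dvd_natCard _ hw'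
  rw [CfsgLib.MTwentyTwoUnique.m22_five hu', orderOf_dvd_iff_pow_eq_one, ← map_pow] at h5
  exact l.stab_inj (w := w ^ 5) (pow_mem hw 5) h5

/-- An element of order five of the stabiliser moves every involution of the elementary abelian group. -/
theorem exists_five : ∃ y ∈ MulAction.stabilizer K s ⊓ M, orderOf y = 5 ∧
    ∀ e ∈ E ⊓ M, ∃ a ∈ E ⊓ M, y * a * y⁻¹ * a⁻¹ = e := by
  classical
  haveI : Fact (Nat.Prime 5) := ⟨by norm_num⟩
  obtain ⟨⟨y, hy⟩, ho⟩ := exists_prime_orderOf_dvd_card' (G := ↥(MulAction.stabilizer K s ⊓ M)) 5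
    (by rw [l.Y_card]; norm_num)
  have hy5 : orderOf y = 5 := by rw [← ho, ← Subgroup.orderOf_mk _ hy]
  refine ⟨y, hy, hy5, ?_⟩
  have hmem : ∀ a ∈ E ⊓ M, y * a * y⁻¹ * a⁻¹ ∈ E ⊓ M := fun a ha => mul_mem (l.norm_E0 hy.1 ha) (inv_mem ha)
  let f : ↥(E ⊓ M) → ↥(E ⊓ M) := fun a => ⟨y * a * y⁻¹ * (a : K)⁻¹, hmem a a.2⟩
  have hinj : Function.Injective f := by
    rintro ⟨a, ha⟩ ⟨b, hb⟩ e
    have e' : y * a * y⁻¹ * a⁻¹ = y * b * y⁻¹ * b⁻¹ := congrArg Subtype.val e
    set d := b⁻¹ * a with hdd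
    have hdE : d ∈ E ⊓ M := mul_mem (inv_mem hb) ha
    have hd1 : d * y = y * d := by
      have h1 : y * d * y⁻¹ = (y * b * y⁻¹)⁻¹ * (y * a * y⁻¹) := by rw [hdd]; group
      have h2 : y * a * y⁻¹ = (y * b * y⁻¹ * b⁻¹) * a := by rw [← e']; group
      rw [h2, show (y * b * y⁻¹)⁻¹ * (y * b * y⁻¹ * b⁻¹ * a) = d by rw [hdd]; group] at h1
      exact (mul_inv_eq_iff_eq_mul.1 h1).symm
    have h5 := l.cent_five hy hy5 (w := d) ⟨l.E_le_stab hdE.1, hdE.2⟩ hd1
    have h2 : d ^ 2 = 1 := l.dat.elem.2 d hdE.1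
    have : d = 1 := by
      rw [show d ^ 5 = (d ^ 2) ^ 2 * d by rw [← pow_mul, ← pow_succ], h2, one_pow, one_mul] at h5
      exact h5
    exact Subtype.ext (inv_mul_eq_one.1 this).symm
  intro e he
  obtain ⟨⟨a, ha⟩, hfa⟩ := (Finite.surjective_of_injective hinj) ⟨e, he⟩
  exact ⟨a, ha, congrArg Subtype.val hfa⟩

/-- The map of the stabiliser onto the symmetric group. -/
theorem exists_quotient : ∃ f : ↥(MulAction.stabilizer K s ⊓ M) →* Equiv.Perm (Fin 5),
    Function.Surjective f ∧ ∀ k, f k = 1 ↔ (k : K) ∈ E ⊓ M := by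
  classical
  haveI : Fact (Nat.Prime 5) := ⟨by norm_num⟩
  set Y := MulAction.stabilizer K s ⊓ M
  set E0 := (E ⊓ M).subgroupOf Y with hE0
  have hle : E ⊓ M ≤ Y := fun e he => ⟨l.E_le_stab he.1, he.2⟩
  haveI : E0.Normal := ⟨fun a ha y => mem_subgroupOf.2 (l.norm_E0 y.2.1 ha)⟩
  have hE16 : Nat.card ↥E0 = 16 := by
    rw [hE0, Nat.card_congr (subgroupOfEquivOfLe hle).toEquiv, l.data_cards.2.2.1]
  have h120 : Nat.card (↥Y ⧸ E0) = 120 := by
    have h := E0.card_mul_index
    rw [hE16, l.Y_card, index_eq_card] at h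
    omega
  have hsur : Function.Surjective (QuotientGroup.mk' E0) := QuotientGroup.mk'_surjective E0
  obtain ⟨e⟩ := iso_perm_five h120 fun u hu w hwu => by
    -- lift to elements normalising a group of order five
    obtain ⟨u₀, rfl⟩ := hsur u
    have h5 : orderOf (u₀ ^ 16) = 5 := by
      refine orderOf_eq_prime ?_ fun h => ?_
      · have h' : u₀ ^ 5 ∈ E0 := by
          rw [← QuotientGroup.eq_one_iff, QuotientGroup.mk_pow, ← hu]
          exact pow_orderOf_eq_one _
        have h16 := congrArg Subtype.val (pow_card_eq_one' (x := (⟨_, h'⟩ : ↥E0)))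
        rw [hE16] at h16
        rw [← pow_mul, mul_comm, pow_mul]
        exact h16
      · have := congrArg (QuotientGroup.mk' E0) h
        rw [map_pow, map_one] at this
        have h' := orderOf_dvd_of_pow_eq_one this
        rw [hu] at h'
        norm_num at h'
    have hmk : QuotientGroup.mk' E0 (u₀ ^ 16) = QuotientGroup.mk' E0 u₀ := by
      rw [map_pow, ← pow_mod_orderOf, hu, show 16 % 5 = 1 from rfl, pow_one]
    set U := zpowers (u₀ ^ 16) with hU
    have hUc : Nat.card ↥U = 5 := by rw [hU, Nat.card_zpowers, h5]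
    have hk : ¬ 5 ∣ Nat.card ↥(QuotientGroup.mk' E0).ker := by
      rw [QuotientGroup.ker_mk', hE16]; norm_num
    have hwN : w ∈ normalizer ((U.map (QuotientGroup.mk' E0) : Subgroup (↥Y ⧸ E0)) : Set (↥Y ⧸ E0)) := by
      rw [hU, MonoidHom.map_zpowers, hmk]
      refine centralizer_le_normalizer _ (mem_centralizer_iff.2 fun x hx => ?_)
      obtain ⟨i, rfl⟩ := mem_zpowers_iff.1 hx
      exact (Commute.zpow_left (show Commute (QuotientGroup.mk' E0 u₀) w from hwu.symm) i).eq
    obtain ⟨g, hg, rfl⟩ := lift_normalizer (QuotientGroup.mk' E0) hsur hk U hUc hwN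
    have hcU : g * (u₀ ^ 16) * g⁻¹ * (u₀ ^ 16)⁻¹ ∈ U :=
      mul_mem ((mem_normalizer_iff.1 hg _).1 (mem_zpowers _)) (inv_mem (mem_zpowers _))
    have hcE : g * (u₀ ^ 16) * g⁻¹ * (u₀ ^ 16)⁻¹ ∈ E0 := by
      rw [← QuotientGroup.eq_one_iff, ← QuotientGroup.mk'_apply, map_mul, map_mul, map_mul, map_inv, map_inv, hmk,
        hwu, mul_inv_cancel_right, mul_inv_cancel]
    have hone : g * (u₀ ^ 16) * g⁻¹ * (u₀ ^ 16)⁻¹ = 1 := by
      refine orderOf_eq_one_iff.1 (Nat.dvd_one.1 ?_)
      have a1 := Subgroup.orderOf_dvd_natCard _ hcU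
      have a2 := Subgroup.orderOf_dvd_natCard _ hcE
      rw [hUc] at a1
      rw [hE16] at a2
      exact (show Nat.gcd 5 16 = 1 by rfl) ▸ Nat.dvd_gcd a1 a2
    have hcomm : g * (u₀ ^ 16) = (u₀ ^ 16) * g := mul_inv_eq_iff_eq_mul.1 (mul_inv_eq_one.1 hone)
    have h := l.cent_five (u := ((u₀ ^ 16 : ↥Y) : K)) (w := (g : K)) (u₀ ^ 16).2
      (by rw [Subgroup.orderOf_coe]; exact h5) g.2 (congrArg Subtype.val hcomm)
    rw [← map_pow, show g ^ 5 = 1 from Subtype.ext h, map_one]
  refine ⟨e.toMonoidHom.comp (QuotientGroup.mk' E0), e.surjective.comp hsur, fun k => ?_⟩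
  show e (QuotientGroup.mk' E0 k) = 1 ↔ _
  rw [MulEquiv.map_eq_one_iff, QuotientGroup.mk'_apply, QuotientGroup.eq_one_iff, mem_subgroupOf]

theorem fix_line : n • s ∈ D ∧
    ∀ d ∈ D, (∀ e ∈ E ⊓ M, e • d = d) → d = 0 ∨ d = s ∨ d = n • s ∨ d = s + n • s := by
  classical
  obtain ⟨-, hD64, -, hnM⟩ := l.data_cards
  have hfixn : ∀ e ∈ E ⊓ M, e • n • s = n • s := fun e he => by rw [l.smul_n_M he.2, l.dat.fix e he.1]
  have hns : n • s ≠ s := l.core.smul_n_ne l.cls.ne
  obtain ⟨e1, he1, he1M⟩ := SetLike.not_le_iff_exists.1 hnM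
  have hF0 : ∀ d ∈ D, ∀ d' ∈ D, (∀ e ∈ E ⊓ M, e • d = d) → (∀ e ∈ E ⊓ M, e • d' = d') →
      d ≠ 0 → d ≠ s → d' = 0 ∨ d' = s ∨ d' = d ∨ d' = d + s := by
    haveI := l.M_normal
    have hall : ∀ d ∈ D, (∀ e ∈ E ⊓ M, e • d = d) → e1 • d = d → d = 0 ∨ d = s := by
      intro d hd1 hd2 h1
      refine l.dat.fixD d hd1 fun e he => ?_
      by_cases heM : e ∈ M
      · exact hd2 e ⟨he, heM⟩
      · have hm : e1⁻¹ * e ∈ E ⊓ M := ⟨E.mul_mem (E.inv_mem he1) he,
          (Subgroup.mul_mem_iff_of_index_two l.core.indexM).2 (by simp [he1M, heM])⟩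
        calc e • d = e1 • (e1⁻¹ * e) • d := by rw [← mul_smul, mul_inv_cancel_left]
          _ = d := by rw [hd2 _ hm, h1]
    intro d hdD d' hd'D hf hf' hd0 hds
    have hed : e1 • d = d + s := (l.dat.move e1 he1 d hdD).resolve_left fun h => (hall d hdD hf h).elim hd0 hds
    rcases l.dat.move e1 he1 d' hd'D with h | h
    · rcases hall d' hd'D hf' h with e | e
      · exact .inl e
      · exact .inr (.inl e)
    · have h2 : e1 • (d + d') = d + d' := by
        rw [smul_add, hed, h, add_add_add_comm, vadd_self, add_zero]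
      rcases hall _ (D.add_mem hdD hd'D) (fun e he => by rw [smul_add, hf e he, hf' e he]) h2 with e | e
      · exact .inr (.inr (.inl (eq_of_vadd e).symm))
      · exact .inr (.inr (.inr (by rw [← e, ← add_assoc, vadd_self, zero_add])))
  set w := n • n • s with hw
  obtain ⟨d, hd', hwd, hmove⟩ : ∃ d ∈ D, polar q w d = 0 ∧ ∃ e ∈ E ⊓ M, e • d ≠ d := by
    by_contra h
    simp only [not_exists, not_and, not_not] at h
    let D' : Set V := {d | d ∈ D ∧ polar q w d = 0}
    have hbig : 32 ≤ D'.ncard := by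
      let f : ↥D →+ ZMod 2 := AddMonoidHom.mk' (fun d => polar q w (d : V)) fun a b =>
        QuadraticMap.polar_add_right q w (a : V) (b : V)
      have h1 := f.ker.card_mul_index
      rw [AddSubgroup.index_ker, hD64] at h1
      have h2 : Nat.card f.range ≤ 2 :=
        (Nat.card_le_card_of_injective (fun x : f.range => x.1) Subtype.val_injective).trans (Nat.card_zmod 2).le
      have h3 : Nat.card ↥f.ker ≤ D'.ncard := by
        rw [← Nat.card_coe_set_eq]
        exact Nat.card_le_card_of_injective (fun x => (⟨((x : ↥D) : V), (x : ↥D).2, x.2⟩ : ↥D'))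
          fun a b e => Subtype.ext (Subtype.ext (Subtype.mk.inj e))
      nlinarith
    obtain ⟨a, ha, ha'⟩ : ∃ a ∈ D', a ∉ ({0, s} : Set V) := by
      by_contra hh
      simp only [not_exists, not_and, not_not] at hh
      have h1 := Set.ncard_le_ncard (s := D') hh (Set.toFinite _)
      have h2 := Set.ncard_insert_le (0 : V) {s}
      rw [Set.ncard_singleton] at h2
      omega
    simp only [Set.mem_insert_iff, Set.mem_singleton_iff, not_or] at ha'
    have hsub : D' ⊆ {0, s, a, a + s} := fun x hx => by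
      rcases hF0 a ha.1 x hx.1 (h a ha.1 ha.2) (h x hx.1 hx.2) ha'.1 ha'.2 with e | e | e | e <;> simp [e]
    have h1 := Set.ncard_le_ncard hsub (Set.toFinite _)
    have h2 := Set.ncard_insert_le (0 : V) {s, a, a + s}
    have h3 := Set.ncard_insert_le s {a, a + s}
    have h4 := Set.ncard_insert_le a {a + s}
    rw [Set.ncard_singleton] at h4
    omega
  obtain ⟨e, he, hed'⟩ := hmove
  have hed : e • d = d + s := (l.dat.move e he.1 d hd').resolve_left hed'
  have hnd : polar q (n • d) s = 0 := by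
    rw [← l.core.smul_n_three s, l.core.polar_smul, QuadraticMap.polar_comm]
    exact hwd
  have hmem : n • s ∈ D := by
    have h := l.dat.perp e he.1 (n • d) hnd
    rwa [l.smul_n_M he.2, hed, smul_add, add_comm (n • d) (n • s), add_assoc, vadd_self, add_zero] at h
  refine ⟨hmem, fun d hdD hf => ?_⟩
  rcases hF0 (n • s) hmem d hdD hfixn hf l.ns_ne hns with e | e | e | e
  · exact .inl e
  · exact .inr (.inl e)
  · exact .inr (.inr (.inl e))
  · exact .inr (.inr (.inr (by rw [e, add_comm])))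

/-- The vectors of `D` fixed by the part in `M` form the line. -/
theorem fixed_line :
    (∀ d ∈ D, (∀ e ∈ E ⊓ M, e • d = d) → InLine n s d) ∧ n • s ∈ D ∧ n • n • s ∈ D := by
  obtain ⟨hmem, hfix⟩ := l.fix_line
  obtain ⟨-, -, -, hsum, -⟩ := l.line_distinct
  refine ⟨fun d hdD hf => ?_, hmem, hsum ▸ D.add_mem l.dat.mem hmem⟩
  rcases hfix d hdD hf with e | e | e | e
  · exact Or.inl e
  · exact Or.inr (Or.inl e)
  · exact Or.inr (Or.inr (Or.inl e))
  · exact Or.inr (Or.inr (Or.inr (e.trans hsum)))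

/-- Commutation with the part in `M` takes the orthogonal space of the line into the line. -/
theorem comm_line {e : K} (he : e ∈ E ⊓ M) {v : V}
    (h1 : polar q v s = 0) (h2 : polar q v (n • s) = 0) : InLine n s (e • v + v) := by
  obtain ⟨hline, hnsD, hnnsD⟩ := l.fixed_line
  obtain ⟨-, -, -, hsum, -⟩ := l.line_distinct
  have hne : ∀ w : V, e • n • w = n • e • w := fun w => l.smul_n_M he.2 w
  have h3 : polar q v (n • n • s) = 0 := by rw [← hsum, polar_add_right, h1, h2, add_zero]
  have hinv : ∀ a b : V, polar q (n • a) b = polar q a (n • n • b) := fun a b => by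
    conv_lhs => rw [← l.core.smul_n_three b, l.core.polar_smul]
  set w := e • v + v with hw
  have hD0 : w ∈ D := l.dat.perp e he.1 v h1
  have hD1 : n • w ∈ D := by
    rw [hw, smul_add, ← hne]
    exact l.dat.perp e he.1 (n • v) (by rw [hinv]; exact h3)
  refine hline w hD0 fun a ha => ?_
  have hna : ∀ u : V, a • n • u = n • a • u := fun u => l.smul_n_M ha.2 u
  rcases l.dat.move a ha.1 w hD0 with h | h
  · exact h
  · exfalso
    rcases l.dat.move a ha.1 (n • w) hD1 with h' | h' <;> rw [hna, h, smul_add] at h'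
    · exact l.ns_ne (add_left_cancel (a := n • w) (by rw [h', add_zero]))
    · exact l.line_distinct.1 (add_left_cancel h')

end LineData

end CfsgLib.JankoFour.ThreeTwelve
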