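import Cfsg.Agent.Lib.JankoFour.ThreeTwelve.Sylow
import Cfsg.Agent.Lib.JankoFour.Thompson.Local

/-!
# A copy of the linear group inside the normaliser of the group of order eight
-/

set_option autoImplicit false
set_option linter.unusedSectionVars false
set_option linter.style.haveILetI false
set_option maxHeartbeats 1000000

namespace CfsgLib.JankoFour.ThreeTwelve

open Subgroup
open scoped Pointwise commutatorElement

theorem l32_perfect : ⁅(⊤ : Subgroup L32), (⊤ : Subgroup L32)⁆ = ⊤ := by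
  haveI := l32_simple
  haveI : (⁅(⊤ : Subgroup L32), (⊤ : Subgroup L32)⁆).Normal := inferInstance
  refine (inferInstance : (⁅(⊤ : Subgroup L32), (⊤ : Subgroup L32)⁆).Normal).eq_bot_or_eq_top.resolve_left fun h => ?_
  have hc : ∀ a b : L32, a * b = b * a := fun a b => by
    have h1 : ⁅a, b⁆ ∈ (⊥ : Subgroup L32) := h ▸ commutator_mem_commutator (mem_top a) (mem_top b)
    exact commutatorElement_eq_one_iff_mul_comm.1 (mem_bot.1 h1)
  letI : CommGroup L32 := { (inferInstance : Group L32) with mul_comm := hc }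
  have hp := IsSimpleGroup.prime_card (α := L32)
  rw [l32_card] at hp
  exact absurd hp (by norm_num)

namespace Cfg

open CfsgLib.LargeFischer (fixSub)

variable {G : Type*} [Group G] [Finite G] {z : G}
  {Q : Subgroup (centralizer ({z} : Set G))} [Q.Normal] {V : Type*} [AddCommGroup V] [Module (ZMod 2) V]
  [DistribMulAction ((centralizer ({z} : Set G)) ⧸ Q) V] [Finite V] {q : QuadraticForm (ZMod 2) V} {π : ↥Q → V}
  {n : (centralizer ({z} : Set G)) ⧸ Q} {M : Subgroup ((centralizer ({z} : Set G)) ⧸ Q)} {φ : ↥M →* ↥Cfsg.Spor.M22}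
  {g : G} {x y : ↥Q} {E : Subgroup ((centralizer ({z} : Set G)) ⧸ Q)} {D : AddSubgroup V}
  {s : V} {A : Subgroup G} {Ab : Subgroup ((centralizer ({z} : Set G)) ⧸ Q)}
  (c : Cfg Q q π n M φ g x y E D) (t : Thompson.Ctx Q q π n M φ s A Ab) (hv : π x ∈ csetK Ab s)
include c t hv

theorem V8_le_A : c.V8 ≤ A := by
  intro v hv8
  obtain ⟨a, ha, rfl⟩ := c.mem_V8.1 hv8
  refine (t.mem_Q a).2 ?_
  have h1 : π x ∈ (fixSub Ab : AddSubgroup V) := hv.1
  have h2 := t.oth.facts.2.2.1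
  rcases ha with e | e | e | e <;> rw [e]
  exacts [zero_mem _, h1, h2 _ h1, h2 _ (h2 _ h1)]

theorem A_le_cent : A ≤ centralizer (c.V8 : Set G) := fun a ha =>
  mem_centralizer_iff.2 fun v hv8 => t.comm (c.V8_le_A t hv hv8) ha

/-- The centraliser of the group of order eight has an element of order three normalising the elementary group. -/
theorem exists_three_normalizing :
    ∃ u ∈ centralizer (c.V8 : Set G), orderOf u = 3 ∧ u ∈ normalizer (A : Set G) := by
  classical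
  haveI : Fact (Nat.Prime 3) := ⟨Nat.prime_three⟩
  set K := (centralizer ({z} : Set G)) ⧸ Q
  set N := normalizer (Ab : Set K) with hN
  set S0 := MulAction.stabilizer K (π x) ⊓ N with hS0
  set Y' := S0 ⊓ M with hY'
  have horb : (MulAction.orbit ↥N (π x)).ncard ≤ 45 := by
    rw [← t.oth.hex.cset_card]
    refine Set.ncard_le_ncard ?_ (Set.toFinite _)
    rintro _ ⟨⟨k, hk⟩, rfl⟩
    refine ⟨fun a ha => ?_, (smul_ne_zero_iff_ne k).2 hv.2.1, ?_⟩
    · show a • k • π x = k • π x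
      have hka : k⁻¹ * a * k ∈ Ab := (mem_normalizer_iff.1 hk _).2 (by simpa [mul_assoc] using ha)
      calc a • k • π x = k • (k⁻¹ * a * k) • π x := by rw [← mul_smul, ← mul_smul]; congr 1; group
        _ = k • π x := by rw [hv.1 _ hka]
    · show k • π x ∈ MulAction.orbit K s
      obtain ⟨k', hk'⟩ := hv.2.2
      exact ⟨k * k', by rw [← hk']; exact mul_smul k k' s⟩
  have hS0c : 768 ≤ Nat.card ↥S0 := by
    have h := (MulAction.stabilizer ↥N (π x)).card_mul_index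
    rw [MulAction.index_stabilizer, hN, t.oth.norm_card, ← hN] at h
    have hst : Nat.card ↥(MulAction.stabilizer ↥N (π x)) = Nat.card ↥S0 := Nat.card_congr
      { toFun := fun k => ⟨(k : ↥N), k.2, (k : ↥N).2⟩
        invFun := fun k => ⟨⟨k, k.2.2⟩, k.2.1⟩
        left_inv := fun k => rfl
        right_inv := fun k => rfl }
    rw [hst] at h
    nlinarith
  have hY'c : 384 ≤ Nat.card ↥Y' := by
    haveI := c.line.M_normal
    have hrel : Y'.relIndex S0 ≤ 2 := by
      rw [hY', inf_relIndex_left]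
      exact Nat.le_of_dvd (by norm_num) (c.mdl.core.indexM ▸ relIndex_dvd_index_of_normal M S0)
    have h := relIndex_mul_relIndex ⊥ Y' S0 bot_le inf_le_left
    simp only [relIndex_bot_left] at h
    nlinarith
  have hle : Y' ≤ MulAction.stabilizer K (π x) ⊓ M := fun k hk => ⟨hk.1.1, hk.2⟩
  have hd : Nat.card ↥Y' ∣ 1920 := c.line.Y_card ▸ card_dvd_of_le hle
  have h3 : 3 ∣ Nat.card ↥Y' := by
    by_contra h3
    have h640 : Nat.card ↥Y' = 640 := by
      have hcop : (Nat.card ↥Y').Coprime 3 := (Nat.Coprime.symm ((Nat.prime_three.coprime_iff_not_dvd).2 h3))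
      have hd' : Nat.card ↥Y' ∣ 640 := hcop.dvd_of_dvd_mul_right (m := 640) hd
      obtain ⟨i, hi⟩ := hd'
      rcases i with _ | _ | i
      · omega
      · omega
      · nlinarith
    obtain ⟨f, -, hf⟩ := c.line.exists_quotient
    set Y'' := Y'.subgroupOf (MulAction.stabilizer K (π x) ⊓ M)
    let p : ↥Y'' →* S5 := f.comp Y''.subtype
    have hker : Nat.card ↥p.ker ≤ 16 := by
      rw [← c.line.data_cards.2.2.1]
      exact Nat.card_le_card_of_injective (fun w => ⟨_, (hf w.1.1).1 w.2⟩) fun a b e =>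
        Subtype.ext (Subtype.ext (Subtype.ext (congrArg Subtype.val e :)))
    have h := p.ker.card_mul_index
    rw [index_ker, Nat.card_congr (subgroupOfEquivOfLe hle).toEquiv, h640] at h
    have h120 : Nat.card ↥p.range ∣ 120 := s5_card ▸ card_subgroup_dvd_card p.range
    have h640' : Nat.card ↥p.range ∣ 640 := ⟨Nat.card ↥p.ker, by rw [← h, mul_comm]⟩
    have h40 : Nat.card ↥p.range ∣ 40 := Nat.dvd_gcd h120 h640'
    refine s5_forty p.range (le_antisymm (Nat.le_of_dvd (by norm_num) h40) ?_)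
    nlinarith
  obtain ⟨⟨k, hk⟩, hk3⟩ := exists_prime_orderOf_dvd_card' (G := ↥Y') 3 h3
  rw [Subgroup.orderOf_mk] at hk3
  obtain ⟨w, rfl, hwC⟩ := c.exists_lift (hle hk)
  have hwN : (w : G) ∈ normalizer (A : Set G) := t.mem_N_iff.2 hk.1.2
  have hdvd : 3 ∣ Nat.card ↥(centralizer (c.V8 : Set G) ⊓ normalizer (A : Set G)) := by
    have h1 := orderOf_map_dvd (QuotientGroup.mk' Q) w
    rw [hk3] at h1
    refine h1.trans ?_
    rw [← Subgroup.orderOf_coe]
    exact Subgroup.orderOf_dvd_natCard _ ⟨hwC, hwN⟩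
  obtain ⟨u, hu⟩ := exists_prime_orderOf_dvd_card' 3 hdvd
  exact ⟨u, u.2.1, by rw [Subgroup.orderOf_coe, hu], u.2.2⟩

/-- The normaliser contains a copy of the linear group. -/
theorem exists_l32 (h3 : ∀ d : G, orderOf d = 3 → Nat.card ↥(centralizer ({d} : Set G)) = 2661120)
    (h7 : ∀ S : Subgroup G, Nat.card ↥S = 7 → Nat.card ↥(normalizer (S : Set G)) = 2 ^ 3 * 3 ^ 2 * 5 * 7)
    (hK24 : ∃ K : Subgroup G, K ≤ normalizer (A : Set G) ∧ K ⊓ A = ⊥ ∧ K ⊔ A = normalizer (A : Set G)) :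
    ∃ K₂ : Subgroup G, K₂ ≤ c.L ∧ Nonempty (↥K₂ ≃* L32) := by
  classical
  haveI := l32_simple
  haveI : Fact (Nat.Prime 2) := ⟨Nat.prime_two⟩
  haveI : Fact (Nat.Prime 3) := ⟨Nat.prime_three⟩
  haveI : Fact (Nat.Prime 7) := ⟨by norm_num⟩
  obtain ⟨K, hKN, hKA, hsup⟩ := hK24
  obtain ⟨Φ, hΦ, hk, hsnd⟩ := c.exists_prod_map
  set C := centralizer (c.V8 : Set G) with hC
  have hAC : A ≤ C := c.A_le_cent t hv
  have hCL : C ≤ c.L := centralizer_le_normalizer (c.V8 : Set G)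
  let f : ↥c.L →* L32 := (MonoidHom.snd S5 L32).comp Φ
  have hf : Function.Surjective f := fun l => by
    obtain ⟨w, hw⟩ := hΦ (1, l)
    exact ⟨w, congrArg Prod.snd hw⟩
  have hdec : ∀ {w : G}, w ∈ normalizer (A : Set G) → ∃ k ∈ K, ∃ a ∈ A, k * a = w := fun {w} hw => by
    rw [← hsup, ← SetLike.mem_coe, coe_mul_of_left_le_normalizer_right K A hKN] at hw
    exact hw
  have hone : ∀ {w : G}, w ∈ K → w ∈ A → w = 1 := fun {w} h h' =>
    mem_bot.1 (hKA.le (mem_inf.2 ⟨h, h'⟩))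
  -- the element of order three
  obtain ⟨u, huC, hu3, huN⟩ := c.exists_three_normalizing t hv
  obtain ⟨d, hdK, a, haA, hda⟩ := hdec huN
  have hdC : d ∈ C := by
    rw [show d = u * a⁻¹ by rw [← hda]; group]
    exact mul_mem huC (inv_mem (hAC haA))
  have hd3 : orderOf d = 3 := by
    refine orderOf_eq_prime (hone (pow_mem hdK 3) ?_) fun e => ?_
    · have hN : ∀ b ∈ A, ∀ v ∈ normalizer (A : Set G), v * b * v⁻¹ ∈ A := fun b hb v hv' => t.conj_mem hv' hb
      have e3 : d ^ 3 = (u * a⁻¹ * u⁻¹) * ((u * u) * a⁻¹ * (u * u)⁻¹) * (u ^ 3 * a⁻¹ * (u ^ 3)⁻¹) * u ^ 3 := by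
        rw [show d = u * a⁻¹ by rw [← hda]; group]
        simp only [pow_succ, pow_zero, one_mul]
        group
      rw [e3, show u ^ 3 = 1 from hu3 ▸ pow_orderOf_eq_one u, mul_one]
      exact mul_mem (mul_mem (hN _ (inv_mem haA) u huN) (hN _ (inv_mem haA) _ (mul_mem huN huN)))
        (by simpa using haA)
    · rw [e, one_mul] at hda
      have h2 := t.elem.2 a haA
      rw [hda, ← orderOf_dvd_iff_pow_eq_one, hu3] at h2
      omega
  set P := zpowers d with hP
  have hPc : Nat.card ↥P = 3 := by rw [hP, Nat.card_zpowers, hd3]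
  have hdconj : ∀ {k : G}, k ∈ normalizer (P : Set G) → k * d * k⁻¹ = d ∨ k * d * k⁻¹ = d * d := fun {k} hkn => by
    have h1 : k * d * k⁻¹ ∈ P := (mem_normalizer_iff.1 hkn d).1 (mem_zpowers d)
    rw [hP, mem_zpowers_iff_mem_range_orderOf, hd3] at h1
    simp only [Finset.mem_image, Finset.mem_range] at h1
    obtain ⟨i, hi, hie⟩ := h1
    interval_cases i <;> simp only [pow_zero, pow_succ, one_mul] at hie
    · exact absurd (orderOf_eq_one_iff.2 (conj_eq_one_iff.1 hie.symm)) (by rw [hd3]; norm_num)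
    · exact Or.inl hie.symm
    · exact Or.inr hie.symm
  -- elements of the complement normalising the group of order three cover the quotient
  have hcover : ∀ l : L32, ∃ k : ↥c.L, f k = l ∧ (k : G) ∈ K ∧ (k : G) ∈ normalizer (P : Set G) := by
    intro l
    obtain ⟨w, rfl⟩ := hf l
    -- correct into the normaliser of the elementary group
    have hwC : ∀ b ∈ C, (w : G) * b * (w : G)⁻¹ ∈ C := fun b hb => by
      refine mem_centralizer_iff.2 fun v hv8 => ?_
      have hv' : (w : G)⁻¹ * v * (w : G) ∈ c.V8 := (mem_normalizer_iff.1 w.2 _).2 (by simpa [mul_assoc] using hv8)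
      calc v * ((w : G) * b * (w : G)⁻¹) = (w : G) * ((w : G)⁻¹ * v * (w : G) * b) * (w : G)⁻¹ := by group
        _ = _ := by rw [mem_centralizer_iff.1 hb _ hv']; group
    have hA2 : IsPGroup 2 ↥A := IsPGroup.of_card t.card
    set A' := A.map (MulAut.conj (w : G)).toMonoidHom
    have hA'C : A' ≤ C := by
      rintro _ ⟨b, hb, rfl⟩
      exact hwC b (hAC hb)
    obtain ⟨T, hT⟩ := (hA2.comap_subtype (K := C)).exists_le_sylow
    obtain ⟨T', hT'⟩ := ((hA2.map (MulAut.conj (w : G)).toMonoidHom).comap_subtype (K := C)).exists_le_sylow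
    obtain ⟨h, hh⟩ := MulAction.exists_smul_eq ↥C T' T
    have hle : A'.map (MulAut.conj (h : G)).toMonoidHom ≤ (T : Subgroup ↥C).map C.subtype := by
      rintro _ ⟨b, hb, rfl⟩
      refine ⟨MulAut.conj h ⟨b, hA'C hb⟩, ?_, rfl⟩
      rw [← hh]
      exact Subgroup.smul_mem_pointwise_smul (⟨b, hA'C hb⟩ : ↥C) (MulAut.conj h) (T' : Subgroup ↥C) (hT' hb)
    have e := t.uniq _ _ (CfsgLib.LargeFischer.Thompson.elem_map' _ (CfsgLib.LargeFischer.Thompson.elem_map' _ t.elem))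
      (by rw [card_map_of_injective (MulEquiv.injective _), card_map_of_injective (MulEquiv.injective _), t.card])
      (T.2.map C.subtype) (fun b hb => ⟨⟨b, hAC hb⟩, hT hb, rfl⟩) hle
    have hN : (h : G) * (w : G) ∈ normalizer (A : Set G) := t.mem_normalizer fun b hb => by
      rw [← e]
      exact ⟨(w : G) * b * (w : G)⁻¹, ⟨b, hb, rfl⟩, by simp [mul_assoc]⟩
    obtain ⟨k₁, hk₁K, b, hbA, hk₁⟩ := hdec hN
    have hk₁L : k₁ ∈ c.L := by
      rw [show k₁ = (h : G) * (w : G) * b⁻¹ by rw [← hk₁]; group]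
      exact mul_mem (mul_mem (hCL h.2) w.2) (inv_mem (hCL (hAC hbA)))
    have hfC : ∀ v : ↥c.L, (v : G) ∈ C → f v = 1 := fun v hv' => (hsnd v).2 hv'
    have hfk₁ : f ⟨k₁, hk₁L⟩ = f w := by
      have : (⟨k₁, hk₁L⟩ : ↥c.L) * ⟨b, hCL (hAC hbA)⟩ = ⟨h, hCL h.2⟩ * w := Subtype.ext hk₁
      have h' := congrArg f this
      rwa [map_mul, map_mul, hfC ⟨b, _⟩ (hAC hbA), hfC ⟨h, _⟩ h.2, mul_one, one_mul] at h'
    -- correct into the normaliser of the group of order three
    set T₃ := K ⊓ C with hT₃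
    have hPT : P ≤ T₃ := zpowers_le.2 ⟨hdK, hdC⟩
    set P' := P.map (MulAut.conj k₁).toMonoidHom with hP'
    have hk₁C : ∀ b ∈ C, k₁ * b * k₁⁻¹ ∈ C := fun b hb => by
      refine mem_centralizer_iff.2 fun v hv8 => ?_
      have hv' : k₁⁻¹ * v * k₁ ∈ c.V8 := (mem_normalizer_iff.1 hk₁L _).2 (by simpa [mul_assoc] using hv8)
      calc v * (k₁ * b * k₁⁻¹) = k₁ * (k₁⁻¹ * v * k₁ * b) * k₁⁻¹ := by group
        _ = _ := by rw [mem_centralizer_iff.1 hb _ hv']; group
    have hP'T : P' ≤ T₃ := by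
      rintro _ ⟨b', hb', rfl⟩
      exact ⟨K.mul_mem (K.mul_mem hk₁K (hPT hb').1) (K.inv_mem hk₁K), hk₁C _ (hPT hb').2⟩
    have hfac : 3 ^ (Nat.card ↥T₃).factorization 3 = 3 := by
      have h1 : 3 ∣ Nat.card ↥T₃ := hPc ▸ card_dvd_of_le hPT
      have h2 : Nat.card ↥T₃ ∣ 2 ^ 11 * 1920 := c.cent_card ▸ card_dvd_of_le inf_le_right
      obtain ⟨m, hm⟩ := h1
      have hm3 : ¬ 3 ∣ m := fun h' => by
        obtain ⟨i, rfl⟩ := h'
        have h9 : 9 ∣ 2 ^ 11 * 1920 := (Dvd.intro i (by rw [hm]; ring)).trans h2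
        norm_num at h9
      have hm0 : m ≠ 0 := fun e' => hm3 (e' ▸ dvd_zero 3)
      rw [hm, Nat.factorization_mul (by norm_num) hm0, Finsupp.add_apply, Nat.prime_three.factorization_self,
        Nat.factorization_eq_zero_of_not_dvd hm3, add_zero, pow_one]
    let S1 : Sylow 3 ↥T₃ := Sylow.ofCard (P.subgroupOf T₃) (by
      rw [Nat.card_congr (subgroupOfEquivOfLe hPT).toEquiv, hPc, hfac])
    let S2 : Sylow 3 ↥T₃ := Sylow.ofCard (P'.subgroupOf T₃) (by
      rw [Nat.card_congr (subgroupOfEquivOfLe hP'T).toEquiv, card_map_of_injective (MulEquiv.injective _), hPc, hfac])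
    obtain ⟨m, hm⟩ := MulAction.exists_smul_eq ↥T₃ S2 S1
    refine ⟨⟨(m : G), hCL m.2.2⟩ * ⟨k₁, hk₁L⟩, ?_, mul_mem m.2.1 hk₁K, ?_⟩
    · rw [map_mul, hfC _ m.2.2, one_mul, hfk₁]
    · show (m : G) * k₁ ∈ normalizer (P : Set G)
      rw [mem_normalizer_iff_map_conj_eq]
      refine eq_of_le_of_card_ge ?_ (le_of_eq (card_map_of_injective (MulEquiv.injective _)).symm)
      rintro _ ⟨b', hb', rfl⟩
      have h2 : (⟨k₁ * b' * k₁⁻¹, hP'T ⟨b', hb', rfl⟩⟩ : ↥T₃) ∈ (S2 : Subgroup ↥T₃) := ⟨b', hb', rfl⟩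
      have h3' := Subgroup.smul_mem_pointwise_smul _ (MulAut.conj m) _ h2
      rw [show (MulAut.conj m • (S2 : Subgroup ↥T₃)) = (S1 : Subgroup ↥T₃) from congrArg Sylow.toSubgroup hm] at h3'
      have h4 : (m : G) * (k₁ * b' * k₁⁻¹) * (m : G)⁻¹ ∈ P := h3'
      show (m : G) * k₁ * b' * ((m : G) * k₁)⁻¹ ∈ P
      rwa [show (m : G) * k₁ * b' * ((m : G) * k₁)⁻¹ = (m : G) * (k₁ * b' * k₁⁻¹) * (m : G)⁻¹ by group]
  -- the centraliser of the element of order three in the complement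
  set X := (K ⊓ centralizer ({d} : Set G)).subgroupOf c.L with hX
  have hXmem : ∀ {k : ↥c.L}, k ∈ X ↔ (k : G) ∈ K ∧ (k : G) * d = d * (k : G) := fun {k} =>
    ⟨fun h => ⟨h.1, mem_centralizer_singleton_iff.1 h.2⟩, fun h => ⟨h.1, mem_centralizer_singleton_iff.2 h.2⟩⟩
  have hXtop : X.map f = ⊤ := by
    have hsq : ∀ l : L32, l * l ∈ X.map f := fun l => by
      obtain ⟨k, rfl, hkK, hkP⟩ := hcover l
      refine ⟨k * k, hXmem.2 ⟨mul_mem hkK hkK, mul_inv_eq_iff_eq_mul.1 ?_⟩, map_mul f k k⟩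
      show (k : G) * (k : G) * d * ((k : G) * (k : G))⁻¹ = d
      rw [show (k : G) * (k : G) * d * ((k : G) * (k : G))⁻¹ = (k : G) * ((k : G) * d * (k : G)⁻¹) * (k : G)⁻¹ by group]
      rcases hdconj hkP with e | e
      · rw [e, e]
      · rw [e, show (k : G) * (d * d) * (k : G)⁻¹ = ((k : G) * d * (k : G)⁻¹) * ((k : G) * d * (k : G)⁻¹) by group, e]
        calc d * d * (d * d) = d ^ 3 * d := by simp only [pow_succ, pow_zero, one_mul, mul_assoc]
          _ = d := by rw [← hd3, pow_orderOf_eq_one, one_mul]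
    have hn : (X.map f).Normal := ⟨fun l hl l' => by
      obtain ⟨k, hkX, rfl⟩ := hl
      obtain ⟨k', rfl, hk'K, hk'P⟩ := hcover l'
      refine ⟨k' * k * k'⁻¹, hXmem.2 ⟨mul_mem (mul_mem hk'K (hXmem.1 hkX).1) (inv_mem hk'K), ?_⟩, by simp⟩
      have hd' : Commute (k : G) d := (hXmem.1 hkX).2
      show (k' : G) * (k : G) * (k' : G)⁻¹ * d = d * ((k' : G) * (k : G) * (k' : G)⁻¹)
      have hk'i : (k' : G)⁻¹ ∈ normalizer (P : Set G) := inv_mem hk'P
      have e2 : Commute (k : G) ((k' : G)⁻¹ * d * (k' : G)) := by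
        rcases hdconj hk'i with e | e <;> rw [inv_inv] at e <;> rw [e]
        exacts [hd', hd'.mul_right hd']
      calc (k' : G) * (k : G) * (k' : G)⁻¹ * d
          = (k' : G) * ((k : G) * ((k' : G)⁻¹ * d * (k' : G))) * (k' : G)⁻¹ := by group
        _ = _ := by rw [e2.eq]; group⟩
    refine hn.eq_bot_or_eq_top.resolve_left fun hb => ?_
    obtain ⟨l, hl⟩ := exists_prime_orderOf_dvd_card' (G := L32) 7 (by rw [l32_card]; norm_num)
    have h2 : l ^ 2 = 1 := by
      rw [pow_two]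
      exact mem_bot.1 (hb ▸ hsq l)
    rw [← orderOf_dvd_iff_pow_eq_one, hl] at h2
    omega
  -- an element of order seven and the kernel
  have hXsurj : ∀ l : L32, ∃ k ∈ X, f k = l := fun l => by
    have := hXtop.ge (mem_top l)
    exact this
  obtain ⟨s7, hs7⟩ : ∃ s7 : ↥X, orderOf s7 = 7 := by
    refine exists_prime_orderOf_dvd_card' 7 ?_
    have h := card_map_dvd X f
    rw [hXtop, card_top, l32_card] at h
    exact (show 7 ∣ 168 by norm_num).trans h
  set S7 := zpowers (((s7 : ↥c.L)) : G) with hS7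
  have hS7c : Nat.card ↥S7 = 7 := by rw [hS7, Nat.card_zpowers, Subgroup.orderOf_coe, Subgroup.orderOf_coe, hs7]
  have hS7X : S7 ≤ (X.map c.L.subtype) := zpowers_le.2 ⟨_, s7.2, rfl⟩
  have hfpf := (c.seven_facts hS7c (zpowers_le.2 (s7 : ↥c.L).2) (h7 _ hS7c)).2
  set U := X.map c.L.subtype ⊓ c.Rg with hU
  have hU1 : U = ⊥ := by
    have hS7N : S7 ≤ normalizer (U : Set G) := by
      intro w hw
      obtain ⟨w', hw', rfl⟩ := hS7X hw
      rw [mem_normalizer_iff_map_conj_eq]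
      refine eq_of_le_of_card_ge ?_ (le_of_eq (card_map_of_injective (MulEquiv.injective _)).symm)
      rintro _ ⟨b, ⟨⟨b', hb', rfl⟩, hbR⟩, rfl⟩
      exact ⟨⟨w' * b' * w'⁻¹, mul_mem (mul_mem hw' hb') (inv_mem hw'), rfl⟩,
        mem_subgroupOf.1 (c.Rg_normal.conj_mem b' hbR w')⟩
    letI : MulAction ↥S7 ↥U := MulAction.compHom _ (U.normalizerMonoidHom.comp (inclusion hS7N))
    have hp7 : IsPGroup 7 ↥S7 := IsPGroup.of_card (n := 1) (by rw [hS7c, pow_one])
    have hmod := hp7.card_modEq_card_fixedPoints (α := ↥U)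
    have hfix : Nat.card (MulAction.fixedPoints ↥S7 ↥U) = 1 := by
      refine Nat.card_eq_one_iff_unique.2 ⟨⟨fun a b => ?_⟩, ⟨⟨1, fun w => Subtype.ext (by
        show (w : G) * 1 * (w : G)⁻¹ = 1
        group)⟩⟩⟩
      have key : ∀ a : MulAction.fixedPoints ↥S7 ↥U, ((a : ↥U) : G) = 1 := fun a => by
        refine mem_bot.1 (hfpf.le ⟨(a : ↥U).2.2, mem_centralizer_iff.2 fun w hw => ?_⟩)
        exact mul_inv_eq_iff_eq_mul.1 (congrArg Subtype.val (a.2 ⟨w, hw⟩))
      exact Subtype.ext (Subtype.ext ((key a).trans (key b).symm))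
    rw [hfix] at hmod
    -- the size of the kernel
    set Cd := (centralizer ({d} : Set G)).subgroupOf c.L with hCd
    let fd : ↥Cd →* L32 := f.comp Cd.subtype
    have hfd : Function.Surjective fd := fun l => by
      obtain ⟨k, hkX, rfl⟩ := hXsurj l
      exact ⟨⟨k, mem_centralizer_singleton_iff.2 (hXmem.1 hkX).2⟩, rfl⟩
    set R₀ := (c.Rg ⊓ centralizer ({d} : Set G)) with hR₀
    have hdvdR : Nat.card ↥R₀ * 168 ∣ 2661120 := by
      have h := fd.ker.card_mul_index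
      rw [index_ker, MonoidHom.range_eq_top.2 hfd, card_top, l32_card] at h
      have h1 : Nat.card ↥R₀ ∣ Nat.card ↥fd.ker := by
        let i : ↥R₀ →* ↥fd.ker := MonoidHom.mk' (fun r => ⟨⟨⟨r, c.Rg_le_L r.2.1⟩, r.2.2⟩,
          (hsnd _).2 (c.Rg_le r.2.1)⟩) fun a b => rfl
        exact card_dvd_of_injective i fun a b e => Subtype.ext (congrArg (fun w : ↥fd.ker => ((w.1.1 : ↥c.L) : G)) e)
      rw [← h3 d hd3]
      refine (Nat.mul_dvd_mul_right h1 168).trans (h.symm ▸ ?_)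
      let j : ↥Cd →* ↥(centralizer ({d} : Set G)) :=
        MonoidHom.mk' (fun w => ⟨((w : ↥c.L) : G), w.2⟩) fun a b => rfl
      exact card_dvd_of_injective j fun a b e => Subtype.ext (Subtype.ext (congrArg Subtype.val e :))
    have hR32 : Nat.card ↥R₀ ≤ 32 := by
      obtain ⟨i, hi⟩ := IsPGroup.iff_card.1 (c.isPGroup_Rg.to_le (inf_le_left : R₀ ≤ c.Rg))
      rw [hi] at hdvdR ⊢
      by_contra hlt
      have hi6 : 6 ≤ i := by
        by_contra hh
        have := Nat.pow_le_pow_right (show 0 < 2 by norm_num) (show i ≤ 5 by omega)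
        omega
      have := (Nat.mul_dvd_mul_right (pow_dvd_pow 2 hi6) 168).trans hdvdR
      norm_num at this
    have hUd : ∀ {w : G}, w ∈ U → w ∈ K ∧ w ∈ centralizer ({d} : Set G) := fun {w} hw => by
      obtain ⟨w', hw', rfl⟩ := hw.1
      exact hw'
    have h8U : 8 * Nat.card ↥U ≤ Nat.card ↥R₀ := by
      rw [← c.V8_card, ← Nat.card_prod]
      have hV : ∀ v ∈ c.V8, v ∈ centralizer ({d} : Set G) := fun v hv8 =>
        mem_centralizer_singleton_iff.2 (mem_centralizer_iff.1 hdC v hv8)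
      refine Nat.card_le_card_of_injective (fun p => (⟨(p.1 : G) * (p.2 : G), mul_mem (c.V8_le_Rg p.1.2) p.2.2.2,
        mul_mem (hV _ p.1.2) (hUd p.2.2).2⟩ : ↥R₀)) ?_
      rintro ⟨v, w⟩ ⟨v', w'⟩ e
      have e' : (v : G) * (w : G) = (v' : G) * (w' : G) := congrArg Subtype.val e
      have e2 : (v' : G)⁻¹ * (v : G) = (w' : G) * (w : G)⁻¹ := by
        rw [eq_mul_inv_iff_mul_eq, mul_assoc, e', inv_mul_cancel_left]
      have h1 : (w' : G) * (w : G)⁻¹ = 1 := hone (mul_mem (hUd w'.2).1 (inv_mem (hUd w.2).1))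
        (e2 ▸ c.V8_le_A t hv (mul_mem (inv_mem v'.2) v.2))
      exact Prod.ext (Subtype.ext (inv_mul_eq_one.1 (e2.trans h1)).symm) (Subtype.ext (mul_inv_eq_one.1 h1).symm)
    obtain ⟨i, hi⟩ := IsPGroup.iff_card.1 (c.isPGroup_Rg.to_le (inf_le_right : U ≤ c.Rg))
    refine Subgroup.eq_bot_of_card_le _ ?_
    rw [hi] at hmod h8U ⊢
    have hi2 : i ≤ 2 := by
      by_contra hh
      have := Nat.pow_le_pow_right (show 0 < 2 by norm_num) (show 3 ≤ i by omega)
      omega
    interval_cases i <;> simp_all [Nat.ModEq]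
  -- the derived group
  set T := ⁅X, X⁆ with hT
  have hTtop : T.map f = ⊤ := by rw [hT, map_commutator, hXtop, l32_perfect]
  have hTinj : ∀ w ∈ T, f w = 1 → w = 1 := by
    intro w hw hfw
    set dL : ↥c.L := ⟨d, hCL hdC⟩ with hdL
    have hτ3 : (Φ dL).1 ^ 3 = 1 := by
      rw [← Prod.pow_fst, ← map_pow, show dL ^ 3 = 1 from Subtype.ext (hd3 ▸ pow_orderOf_eq_one d), map_one]
      rfl
    have hτ1 : (Φ dL).1 ≠ 1 := fun e => by
      have h1 : Φ dL = 1 := Prod.ext e ((hsnd dL).2 hdC)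
      have h2 := Subgroup.orderOf_dvd_natCard c.Rg ((hk dL).1 h1)
      rw [show orderOf ((dL : ↥c.L) : G) = 3 from hd3] at h2
      exact c.odd_not_dvd_Rg Nat.prime_three (by norm_num) h2
    have hab : ∀ {v : ↥c.L}, v ∈ X → (Φ v).1 * (Φ dL).1 = (Φ dL).1 * (Φ v).1 := fun {v} hv' => by
      have : v * dL = dL * v := Subtype.ext (hXmem.1 hv').2
      exact congrArg Prod.fst ((map_mul Φ v dL).symm.trans ((congrArg Φ this).trans (map_mul Φ dL v)))
    have hT1 : T.map ((MonoidHom.fst S5 L32).comp Φ) = ⊥ := by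
      rw [hT, map_commutator, eq_bot_iff, commutator_le]
      rintro _ ⟨v, hv', rfl⟩ _ ⟨v', hv'', rfl⟩
      rw [mem_bot, commutatorElement_eq_one_iff_mul_comm]
      exact s5_three_comm _ hτ3 hτ1 _ (hab hv') _ (hab hv'')
    have h1 : (Φ w).1 = 1 := mem_bot.1 (hT1.le ⟨w, hw, rfl⟩)
    have h2 : (w : G) ∈ c.Rg := (hk w).1 (Prod.ext h1 hfw)
    have hwX : w ∈ X := (commutator_le.2 fun a ha b hb => by
      rw [commutatorElement_def]
      exact mul_mem (mul_mem (mul_mem ha hb) (inv_mem ha)) (inv_mem hb)) hw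
    have h3' : (w : G) ∈ U := ⟨⟨w, hwX, rfl⟩, h2⟩
    rw [hU1, mem_bot] at h3'
    exact Subtype.ext h3'
  refine ⟨T.map c.L.subtype, map_subtype_le T, ⟨((T.equivMapOfInjective c.L.subtype (subtype_injective _)).symm).trans
    (MulEquiv.ofBijective (f.comp T.subtype) ⟨(injective_iff_map_eq_one _).2 fun w hw =>
      Subtype.ext (hTinj w w.2 hw), fun l => ?_⟩)⟩⟩
  obtain ⟨w, hw, rfl⟩ := hTtop.ge (mem_top l)
  exact ⟨⟨w, hw⟩, rfl⟩

end Cfg

end CfsgLib.JankoFour.ThreeTwelve
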