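import Cfsg.Agent.Lib.JankoFour.ThreeTwelve.Linear
import Cfsg.Agent.Lib.JankoFour.OneThreeType
import Cfsg.Agent.Lib.JankoFour.CentP
import Cfsg.Agent.S5567
import Cfsg.Agent.S5573

/-!
# The local subgroup with core of order `2^15`
-/

set_option autoImplicit false
set_option linter.unusedSectionVars false
set_option linter.style.haveILetI false
set_option maxHeartbeats 1000000

namespace CfsgLib.JankoFour.ThreeTwelve

open Subgroup Cfsg

variable {G : Type*} [Group G] [Finite G] [IsSimpleGroup G] {z : G} {P : Subgroup G}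

/-- The centralisers of the elements of order three. -/
theorem three_cent_card (h : IsOfJankoFourTypeWith z P) {d : G} (hd : orderOf d = 3) :
    Nat.card ↥(centralizer ({d} : Set G)) = 2661120 := by
  haveI := Fact.mk Nat.prime_three
  obtain ⟨-, -, hc6, ⟨e⟩, hle⟩ := order_three_cover_of_facts h fun c => c.facts
  have hPc : Nat.card ↥P = 3 := h.2.2.2.2.2.1
  obtain ⟨p, hp⟩ := exists_prime_orderOf_dvd_card' (G := ↥P) 3 (by rw [hPc])
  rw [← Subgroup.orderOf_coe] at hp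
  have hgen : zpowers (p : G) = P :=
    eq_of_le_of_card_ge (zpowers_le.2 p.2) (by rw [Nat.card_zpowers, hp, hPc])
  have hcP : centralizer (P : Set G) = centralizer ({(p : G)} : Set G) :=
    (congrArg (fun X : Subgroup G => centralizer (X : Set G)) hgen.symm).trans (by
      simp only [zpowers_eq_closure, centralizer_closure])
  have hcp : cp z P = centralizer (P : Set G) :=
    inf_eq_right.2 ((centralizer_le_normalizer (P : Set G)).trans hle)
  have hcard : Nat.card ↥(cp z P) = 2661120 := by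
    rw [card_eq_card_quotient_mul_card_subgroup (center ↥(cp z P)), hc6, Nat.card_congr e.toEquiv,
      CfsgLib.Golay.card_sporM22]
  obtain ⟨g, hg⟩ := isConj_iff.1 (one_class_three_of_facts h (fun c => c.facts) (p : G) d hp hd)
  rw [← hcard, hcp, hcP]
  have hmap : (centralizer ({(p : G)} : Set G)).map (MulAut.conj g).toMonoidHom = centralizer ({d} : Set G) := by
    ext w
    constructor
    · rintro ⟨v, hv, rfl⟩
      refine mem_centralizer_singleton_iff.2 ?_
      show g * v * g⁻¹ * d = d * (g * v * g⁻¹)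
      rw [← hg]
      calc g * v * g⁻¹ * (g * (p : G) * g⁻¹) = g * (v * (p : G)) * g⁻¹ := by group
        _ = _ := by rw [mem_centralizer_singleton_iff.1 hv]; group
    · intro hw
      refine ⟨g⁻¹ * w * g, mem_centralizer_singleton_iff.2 ?_, by simp [mul_assoc]⟩
      have hw' := mem_centralizer_singleton_iff.1 hw
      rw [← hg] at hw'
      calc g⁻¹ * w * g * (p : G) = g⁻¹ * (w * (g * (p : G) * g⁻¹)) * g := by group
        _ = _ := by rw [hw']; group
  rw [← hmap, card_map_of_injective (MulEquiv.injective _)]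

/-- Every group of order seven: the order of its normaliser and a symmetric group centralising it. -/
theorem seven_all (hG : ¬ IsMulCommutative G) (h : IsOfJankoFourTypeWith z P) {S₀ : Subgroup G}
    (hS₀ : Nat.card ↥S₀ = 7) (hS₀z : S₀ ≤ centralizer ({z} : Set G)) {S : Subgroup G} (hS : Nat.card ↥S = 7) :
    Nat.card ↥(normalizer (S : Set G)) = 2 ^ 3 * 3 ^ 2 * 5 * 7 ∧
      ∃ I : Subgroup G, I ≤ centralizer (S : Set G) ∧ Nonempty (↥I ≃* Equiv.Perm (Fin 5)) := by
  haveI : Fact (Nat.Prime 7) := ⟨by norm_num⟩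
  obtain ⟨h49, ⟨I, hI, ⟨e⟩⟩, -, hN⟩ := Cfsg.Agent.S5573.result hG z ⟨P, h⟩ S₀ hS₀ hS₀z
  have hfac : 7 ^ (Nat.card G).factorization 7 = 7 := by
    obtain ⟨m, hm⟩ : 7 ∣ Nat.card G := hS₀ ▸ card_subgroup_dvd_card S₀
    have hm7 : ¬ 7 ∣ m := fun h' => h49 (by rw [hm]; exact Nat.mul_dvd_mul_left 7 h')
    rw [hm, Nat.factorization_mul (by norm_num) (show m ≠ 0 from fun e' => hm7 (e' ▸ dvd_zero 7)), Finsupp.add_apply,
      Nat.Prime.factorization_self (by norm_num), Nat.factorization_eq_zero_of_not_dvd hm7, add_zero, pow_one]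
  let T₀ : Sylow 7 G := Sylow.ofCard S₀ (by rw [hS₀, hfac])
  let T : Sylow 7 G := Sylow.ofCard S (by rw [hS, hfac])
  obtain ⟨g, hg⟩ := MulAction.exists_smul_eq G T₀ T
  have hmap : S₀.map (MulAut.conj g).toMonoidHom = S :=
    (congrArg Sylow.toSubgroup hg : _)
  refine ⟨?_, I.map (MulAut.conj g).toMonoidHom, ?_, ⟨(I.equivMapOfInjective _ (MulEquiv.injective _)).symm.trans e⟩⟩
  · rw [← hmap, ← map_normalizer_eq_of_bijective S₀ (MulEquiv.bijective _),
      card_map_of_injective (MulEquiv.injective _), hN]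
  · rw [← hmap]
    rintro _ ⟨i, hi, rfl⟩
    refine mem_centralizer_iff.2 ?_
    rintro _ ⟨w, hw, rfl⟩
    show g * w * g⁻¹ * (g * i * g⁻¹) = g * i * g⁻¹ * (g * w * g⁻¹)
    calc g * w * g⁻¹ * (g * i * g⁻¹) = g * (w * i) * g⁻¹ := by group
      _ = _ := by rw [hI.2.2.1 w hw i hi]; group

/-- The local subgroup, given the centralisers and normalisers of the groups of order five. -/
theorem two_local_of_five (hG : ¬ IsMulCommutative G) (h : IsOfJankoFourTypeWith z P)
    (h5 : ∀ R : Subgroup G, Nat.card ↥R = 5 → R ≤ centralizer ({z} : Set G) → ¬ (25 ∣ Nat.card G) ∧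
      (∃ J : Subgroup G, IsInternalDirectProduct R J (centralizer (R : Set G)) ∧
        ∃ (F : Subgroup ↥J) (_ : F.Normal), IsElementaryAbelian 2 F ∧ Nat.card ↥F = 8 ∧
          Nonempty (↥J ⧸ F ≃* Matrix.SpecialLinearGroup (Fin 3) (ZMod 2)) ∧ ∀ K : Subgroup ↥J, ¬ F.IsComplement' K) ∧
      Nat.card ↥(normalizer (R : Set G)) = 2 ^ 8 * 3 * 5 * 7) :
    ∃ L : Subgroup G, Cfsg.IsSpecial 2 ↥L ∧ Nat.card ↥L = 2 ^ 15 ∧ Nat.card ↥(Subgroup.center ↥L) = 8 ∧
    Nonempty (↥(Subgroup.normalizer (L : Set G)) ⧸ L.subgroupOf (Subgroup.normalizer (L : Set G)) ≃* Equiv.Perm (Fin 5) × Matrix.SpecialLinearGroup (Fin 3) (ZMod 2)) ∧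
    (∀ K : Subgroup ↥(Subgroup.normalizer (L : Set G)), ¬ (L.subgroupOf (Subgroup.normalizer (L : Set G))).IsComplement' K) ∧
    (∃ K₁ : Subgroup G, K₁ ≤ Subgroup.normalizer (L : Set G) ∧ Nonempty (↥K₁ ≃* Equiv.Perm (Fin 5))) ∧
    (∃ K₂ : Subgroup G, K₂ ≤ Subgroup.normalizer (L : Set G) ∧ Nonempty (↥K₂ ≃* Matrix.SpecialLinearGroup (Fin 3) (ZMod 2))) ∧
    (∃ Q : Sylow 5 G, Subgroup.normalizer ((Q : Subgroup G) : Set G) ≤ Subgroup.normalizer (L : Set G)) ∧
    (∃ S : Sylow 7 G, Subgroup.normalizer ((S : Subgroup G) : Set G) ≤ Subgroup.normalizer (L : Set G)) := by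
  classical
  haveI : Fact (Nat.Prime 7) := ⟨by norm_num⟩
  haveI : Fact (Nat.Prime 5) := ⟨by norm_num⟩
  obtain ⟨ι, _, q, _, π, n, M, φ, m, -, -⟩ := exists_model_of_facts h fun c => c.facts
  obtain ⟨s, A, Ab, T₀, t, -⟩ := Thompson.exists_ctx m
  -- a vector of the fixed space fused to the central involution
  obtain ⟨v, hv⟩ : (csetK Ab s).Nonempty := Set.nonempty_of_ncard_ne_zero (by rw [t.oth.hex.cset_card]; norm_num)
  obtain ⟨x, rfl⟩ := m.surj v
  have hx : IsConj z ((x : centralizer ({z} : Set G)) : G) := (m.isConj_iff_orbit t.oth.cls hv.2.1).2 hv.2.2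
  have hne : ((x : centralizer ({z} : Set G)) : G) ≠ z := fun e => hv.2.1 ((m.ker x).2 (.inr e))
  obtain ⟨g, y, E, D, c⟩ := exists_cfg m hx hne
  -- groups of order seven
  obtain ⟨S₀, hS₀, hS₀z⟩ : ∃ S₀ : Subgroup G, Nat.card ↥S₀ = 7 ∧ S₀ ≤ centralizer ({z} : Set G) := by
    have h7 : 7 ∣ Nat.card (centralizer ({z} : Set G)) := by
      rw [card_eq_card_quotient_mul_card_subgroup (core2 z), c.line.card_K]
      exact Dvd.dvd.mul_right (by norm_num) _
    obtain ⟨u, hu⟩ := exists_prime_orderOf_dvd_card' 7 h7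
    exact ⟨zpowers (u : G), by rw [Nat.card_zpowers, Subgroup.orderOf_coe, hu], zpowers_le.2 u.2⟩
  have h7 := fun S hS => seven_all hG h hS₀ hS₀z (S := S) hS
  obtain ⟨R, hR, hRC⟩ := c.exists_order_five
  obtain ⟨h25, -, hRN⟩ := h5 R hR (hRC.trans c.cent_le)
  obtain ⟨S, hS, hSL⟩ := c.exists_order_seven
  obtain ⟨hSN, I, hI, ⟨eI⟩⟩ := h7 S hS
  obtain ⟨hspec, -⟩ := c.Rg_special
  refine ⟨c.Rg, hspec, c.Rg_card, c.Rg_center_card, c.quotient_iso,
    c.no_complement fun R' hR' hR'z => (h5 R' hR' hR'z).2.1, ⟨I, ?_, ⟨eI⟩⟩, ?_, ?_, ?_⟩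
  · rw [c.normalizer_Rg]
    exact hI.trans ((centralizer_le_normalizer (S : Set G)).trans (c.seven_facts hS hSL hSN).1)
  · rw [c.normalizer_Rg]
    obtain ⟨-, K, hKN, hKA, hsup, -⟩ := Cfsg.Agent.S5567.result hG ⟨z, P, h⟩ A t.elem t.card
    exact c.exists_l32 t hv (fun d hd => three_cent_card h hd) (fun S' hS' => (h7 S' hS').1) ⟨K, hKN, hKA, hsup⟩
  · have hfac : 5 ^ (Nat.card G).factorization 5 = 5 := by
      obtain ⟨k, hk⟩ : 5 ∣ Nat.card G := hR ▸ card_subgroup_dvd_card R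
      have hk5 : ¬ 5 ∣ k := fun h' => h25 (by rw [hk]; exact Nat.mul_dvd_mul_left 5 h')
      rw [hk, Nat.factorization_mul (by norm_num) (show k ≠ 0 from fun e' => hk5 (e' ▸ dvd_zero 5)), Finsupp.add_apply,
        Nat.Prime.factorization_self (by norm_num), Nat.factorization_eq_zero_of_not_dvd hk5, add_zero, pow_one]
    exact ⟨Sylow.ofCard R (by rw [hR, hfac]), by rw [c.normalizer_Rg]; exact c.five_le hR hRC hRN⟩
  · have h49 := (Cfsg.Agent.S5573.result hG z ⟨P, h⟩ S₀ hS₀ hS₀z).1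
    have hfac : 7 ^ (Nat.card G).factorization 7 = 7 := by
      obtain ⟨k, hk⟩ : 7 ∣ Nat.card G := hS ▸ card_subgroup_dvd_card S
      have hk7 : ¬ 7 ∣ k := fun h' => h49 (by rw [hk]; exact Nat.mul_dvd_mul_left 7 h')
      rw [hk, Nat.factorization_mul (by norm_num) (show k ≠ 0 from fun e' => hk7 (e' ▸ dvd_zero 7)), Finsupp.add_apply,
        Nat.Prime.factorization_self (by norm_num), Nat.factorization_eq_zero_of_not_dvd hk7, add_zero, pow_one]
    exact ⟨Sylow.ofCard S (by rw [hS, hfac]), by rw [c.normalizer_Rg]; exact (c.seven_facts hS hSL hSN).1⟩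

end CfsgLib.JankoFour.ThreeTwelve
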