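import Cfsg.Agent.Lib.JankoFour.ThreeTwelve.Config
import Cfsg.Agent.Lib.JankoFour.ThreeTwelve.Split
import Cfsg.Agent.Lib.InvolChar.A8Section
import Cfsg.Agent.Lib.Cores.Basic

/-!
# The normaliser of the group of order eight
-/

set_option autoImplicit false
set_option linter.unusedSectionVars false
set_option linter.style.haveILetI false
set_option maxHeartbeats 1000000

namespace CfsgLib.JankoFour.ThreeTwelve.Cfg

open Subgroup QuadraticMap CfsgLib.LargeExtra
open CfsgLib.LargeFischer (perpSub perpSub_card vadd_self eq_of_vadd z2_cases)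
open scoped commutatorElement

variable {G : Type*} [Group G] [Finite G] {z : G}
  {Q : Subgroup (centralizer ({z} : Set G))} [Q.Normal] {V : Type*} [AddCommGroup V] [Module (ZMod 2) V]
  [DistribMulAction ((centralizer ({z} : Set G)) ⧸ Q) V] [Finite V] {q : QuadraticForm (ZMod 2) V} {π : ↥Q → V}
  {n : (centralizer ({z} : Set G)) ⧸ Q} {M : Subgroup ((centralizer ({z} : Set G)) ⧸ Q)} {φ : ↥M →* ↥Cfsg.Spor.M22}
  {g : G} {x y : ↥Q} {E : Subgroup ((centralizer ({z} : Set G)) ⧸ Q)} {D : AddSubgroup V}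
  (c : Cfg Q q π n M φ g x y E D)
include c

/-- A description of the group of order eight symmetric in the two involutions. -/
theorem V8_intrinsic {v : G} : v ∈ c.V8 ↔ v ∈ Qz Q ⊓ Qs Q g ∧
    v ∈ centralizer ((⁅centralizer ({z} : Set G) ⊓ centralizer ({val x} : Set G),
      (Qs Q g ⊓ centralizer ({z} : Set G)) ⊔ (Qz Q ⊓ centralizer ({val x} : Set G))⁆ : Subgroup G) : Set G) := by
  obtain ⟨h1, -, -, hsum, -⟩ := c.line.line_distinct
  constructor
  · intro hv
    refine ⟨c.V8_le hv, ?_⟩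
    suffices h : ⁅centralizer ({z} : Set G) ⊓ centralizer ({val x} : Set G),
        (Qs Q g ⊓ centralizer ({z} : Set G)) ⊔ (Qz Q ⊓ centralizer ({val x} : Set G))⁆ ≤ centralizer (c.V8 : Set G) from
      mem_centralizer_iff.2 fun w hw => (mem_centralizer_iff.1 (h hw) v hv).symm
    have hX : (Qs Q g ⊓ centralizer ({z} : Set G)) ⊔ (Qz Q ⊓ centralizer ({val x} : Set G)) ≤
        centralizer ({z} : Set G) ⊓ centralizer ({val x} : Set G) := by
      refine sup_le (fun w hw => ⟨hw.2, mem_centralizer_singleton_iff.2 (c.x_comm hw.1)⟩) fun w hw => ⟨?_, hw.2⟩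
      obtain ⟨w', -, rfl⟩ := hw.1
      exact w'.2
    have key : ∀ p ∈ centralizer ({z} : Set G) ⊓ centralizer ({val x} : Set G),
        ∃ u, (u = 1 ∨ u = z ∨ u = val x ∨ u = z * val x) ∧ p * val y * p⁻¹ = val y * u := by
      intro p hp
      set w : centralizer ({z} : Set G) := ⟨p, hp.1⟩
      have hwx : QuotientGroup.mk' Q w • π x = π x := c.smul_of_comm (mem_centralizer_singleton_iff.1 hp.2)
      have hns : QuotientGroup.mk' Q w • π y = π y ∨ QuotientGroup.mk' Q w • π y = π (y * x) := by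
        rw [c.mdl.pi_mul, c.hy', add_comm, hsum, ← mul_smul]
        rcases c.line.conj_n (QuotientGroup.mk' Q w) with h | h <;> rw [mul_inv_eq_iff_eq_mul.1 h]
        · left; rw [mul_smul, hwx]
        · right; rw [mul_smul, mul_smul, hwx]
      rcases hns with h | h
      · rcases c.conj_cases h with e | e
        · exact ⟨1, Or.inl rfl, e.trans (mul_one _).symm⟩
        · exact ⟨z, Or.inr (Or.inl rfl), e⟩
      · obtain ⟨a', h1', h2'⟩ := c.pi_conj w y
        rcases c.mdl.pi_eq (x := y * x) (y := a') (h2'.trans h).symm with e | e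
        · exact ⟨val x, Or.inr (Or.inr (Or.inl rfl)), h1'.symm.trans e⟩
        · refine ⟨z * val x, Or.inr (Or.inr (Or.inr rfl)), h1'.symm.trans ?_⟩
          refine e.trans ?_
          show val y * val x * z = val y * (z * val x)
          rw [mul_assoc, c.comm_z (x : centralizer ({z} : Set G))]
    rw [commutator_le]
    intro p hp r hr
    have hr' := hX hr
    have hpz : Commute p z := mem_centralizer_singleton_iff.1 hp.1
    have hrz : Commute r z := mem_centralizer_singleton_iff.1 hr'.1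
    have hpx : Commute p (val x) := mem_centralizer_singleton_iff.1 hp.2
    have hrx : Commute r (val x) := mem_centralizer_singleton_iff.1 hr'.2
    refine c.mem_cent.2 ⟨?_, ?_, mul_inv_eq_iff_eq_mul.1 ?_⟩
    · exact (((hpz.mul_left hrz).mul_left hpz.inv_left).mul_left hrz.inv_left).eq
    · exact (((hpx.mul_left hrx).mul_left hpx.inv_left).mul_left hrx.inv_left).eq
    obtain ⟨u, hu, hpu⟩ := key p hp
    obtain ⟨w, hw, hrw⟩ := key r hr'
    have hcom : ∀ {t : G}, Commute t z → Commute t (val x) → ∀ {a : G},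
        (a = 1 ∨ a = z ∨ a = val x ∨ a = z * val x) → Commute t a := by
      intro t htz htx a ha
      rcases ha with e | e | e | e <;> rw [e]
      exacts [Commute.one_right t, htz, htx, htz.mul_right htx]
    have hzx : Commute z (val x) := (c.comm_z (x : centralizer ({z} : Set G))).symm
    have huz : Commute u z := by
      rcases hu with e | e | e | e
      · rw [e]; exact Commute.one_left z
      · rw [e]
      · rw [e]; exact hzx.symm
      · rw [e]; exact (Commute.refl z).mul_left hzx.symm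
    have hux : Commute u (val x) := by
      rcases hu with e | e | e | e
      · rw [e]; exact Commute.one_left _
      · rw [e]; exact hzx
      · rw [e]
      · rw [e]; exact hzx.mul_left (Commute.refl _)
    have huw : Commute u w := hcom huz hux hw
    have hpw := hcom hpz hpx hw
    have hru := hcom hrz hrx hu
    have hpu' := hcom hpz hpx hu
    have hrw' := hcom hrz hrx hw
    have hpi : p⁻¹ * val y * p = val y * u⁻¹ := by
      calc p⁻¹ * val y * p = p⁻¹ * (p * val y * p⁻¹) * u⁻¹ * p := by rw [hpu]; group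
        _ = val y * (p⁻¹ * u⁻¹ * p) := by group
        _ = val y * u⁻¹ := by rw [mul_assoc, ← (hpu'.inv_right).eq, inv_mul_cancel_left]
    have hri : r⁻¹ * val y * r = val y * w⁻¹ := by
      calc r⁻¹ * val y * r = r⁻¹ * (r * val y * r⁻¹) * w⁻¹ * r := by rw [hrw]; group
        _ = val y * (r⁻¹ * w⁻¹ * r) := by group
        _ = val y * w⁻¹ := by rw [mul_assoc, ← (hrw'.inv_right).eq, inv_mul_cancel_left]
    rw [commutatorElement_def]
    calc p * r * p⁻¹ * r⁻¹ * val y * (p * r * p⁻¹ * r⁻¹)⁻¹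
        = p * (r * (p⁻¹ * (r⁻¹ * val y * r) * p) * r⁻¹) * p⁻¹ := by group
      _ = p * (r * ((p⁻¹ * val y * p) * (p⁻¹ * w⁻¹ * p)) * r⁻¹) * p⁻¹ := by rw [hri]; group
      _ = p * (r * (val y * u⁻¹ * w⁻¹) * r⁻¹) * p⁻¹ := by
        rw [hpi, mul_assoc p⁻¹, ← (hpw.inv_right).eq, inv_mul_cancel_left]
      _ = p * ((r * val y * r⁻¹) * (r * u⁻¹ * r⁻¹) * (r * w⁻¹ * r⁻¹)) * p⁻¹ := by group
      _ = p * (val y * w * u⁻¹ * w⁻¹) * p⁻¹ := by
        rw [hrw, (hru.inv_right).eq, mul_inv_cancel_right, (hrw'.inv_right).eq, mul_inv_cancel_right]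
      _ = p * (val y * u⁻¹) * p⁻¹ := by
        rw [mul_assoc (val y) w, ← (huw.inv_left).eq]; group
      _ = (p * val y * p⁻¹) * (p * u⁻¹ * p⁻¹) := by group
      _ = val y := by rw [hpu, (hpu'.inv_right).eq, mul_inv_cancel_right]; group
  · rintro ⟨hU, hcent⟩
    obtain ⟨a, haQ, rfl⟩ := hU.1
    set a' : ↥Q := ⟨a, haQ⟩
    refine c.mem_V8.2 ⟨a', ?_, rfl⟩
    have haD : π a' ∈ D := (c.hD _).2 ⟨a', hU.2, rfl⟩
    obtain ⟨y5, hy5, -, hall⟩ := c.line.exists_five
    refine c.line.fixed_line.1 _ haD fun e he => ?_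
    obtain ⟨b0, hb0, rfl⟩ := hall e he
    obtain ⟨p, hp, hpx⟩ := c.lift_x (k := y5) hy5.1
    obtain ⟨b, hb, hbe⟩ := c.mem_E.1 hb0.1
    have hmem : (p : G) * (b : G) * (p : G)⁻¹ * (b : G)⁻¹ ∈
        ⁅centralizer ({z} : Set G) ⊓ centralizer ({val x} : Set G),
          (Qs Q g ⊓ centralizer ({z} : Set G)) ⊔ (Qz Q ⊓ centralizer ({val x} : Set G))⁆ := by
      rw [← commutatorElement_def]
      exact commutator_mem_commutator ⟨p.2, mem_centralizer_singleton_iff.2 hpx⟩ (mem_sup_left ⟨hb, b.2⟩)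
    have h := c.smul_of_comm (w := p * b * p⁻¹ * b⁻¹) (a := a') (mem_centralizer_iff.1 hcent _ hmem)
    rwa [map_mul, map_mul, map_mul, map_inv, map_inv, hp, hbe] at h

/-- An element interchanging the two involutions. -/
theorem exists_swap_elem : ∃ h : G, h * z * h⁻¹ = val x ∧ h * val x * h⁻¹ = z := by
  obtain ⟨w, hwQ, hwe⟩ := PairHyp.mem_map_iff.1 c.z_mem'
  set w' : ↥Q := ⟨w, hwQ⟩
  have hwe' : val w' = g⁻¹ * z * g := hwe
  have hconj : IsConj z (val w') := isConj_iff.2 ⟨g⁻¹, by rw [hwe', inv_inv]⟩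
  have hne : val w' ≠ z := by
    rw [hwe']
    intro e
    refine c.x_ne.2 ?_
    rw [c.hx]
    calc g * z * g⁻¹ = g * (g⁻¹ * z * g) * g⁻¹ := by rw [e]
      _ = z := by group
  have hcls := c.mdl.class_of_isConj (x := w') hconj hne
  obtain ⟨p', hp'c⟩ := c.mdl.exists_conj (x := x) (y := w') c.cls.ne
    (c.mdl.facts.orbit_eq _ _ c.cls.ne c.cls.sing hcls.ne hcls.sing (c.cls.card.trans hcls.card.symm))
  have hp'x : (p' : G) * val x * (p' : G)⁻¹ = val w' := congrArg Subtype.val hp'c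
  refine ⟨g * (p' : G), ?_, ?_⟩
  · calc g * (p' : G) * z * (g * (p' : G))⁻¹ = g * ((p' : G) * z * (p' : G)⁻¹) * g⁻¹ := by group
      _ = g * z * g⁻¹ := by rw [c.comm_z p', mul_inv_cancel_right]
      _ = val x := c.hx.symm
  · calc g * (p' : G) * val x * (g * (p' : G))⁻¹ = g * ((p' : G) * val x * (p' : G)⁻¹) * g⁻¹ := by group
      _ = g * (g⁻¹ * z * g) * g⁻¹ := by rw [hp'x, hwe']
      _ = z := by group

theorem swap_maps {k : G} (h1 : k * z * k⁻¹ = val x) (h2 : k * val x * k⁻¹ = z) {v : G} (hv : v ∈ c.V8) :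
    k * v * k⁻¹ ∈ c.V8 := by
  -- the two conjugates of `Q` are interchanged
  have hzQ : ∀ t ∈ centralizer ({z} : Set G), ∀ a ∈ Qz Q, t * a * t⁻¹ ∈ Qz Q := fun t ht a ha =>
    (mem_normalizer_iff.1 (c.hp.normal ht) a).1 ha
  have hQ : ∀ a ∈ Qz Q, k * a * k⁻¹ ∈ Qs Q g := fun a ha => by
    rw [PairHyp.mem_map_iff]
    have ht : g⁻¹ * k ∈ centralizer ({z} : Set G) := mem_centralizer_singleton_iff.2 (by
      calc g⁻¹ * k * z = g⁻¹ * (k * z * k⁻¹) * k := by group
        _ = z * (g⁻¹ * k) := by rw [h1, c.hx]; group)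
    have := hzQ _ ht a ha
    rwa [show g⁻¹ * (k * a * k⁻¹) * g = g⁻¹ * k * a * (g⁻¹ * k)⁻¹ by group]
  have hR : ∀ a ∈ Qs Q g, k * a * k⁻¹ ∈ Qz Q := fun a ha => by
    have ht : k * g ∈ centralizer ({z} : Set G) := mem_centralizer_singleton_iff.2 (by
      calc k * g * z = k * (g * z * g⁻¹) * k⁻¹ * (k * g) := by group
        _ = z * (k * g) := by rw [← c.hx, h2])
    have := hzQ _ ht _ (PairHyp.mem_map_iff.1 ha)
    rwa [show k * g * (g⁻¹ * a * g) * (k * g)⁻¹ = k * a * k⁻¹ by group] at this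
  have hcz : ∀ a ∈ centralizer ({z} : Set G), k * a * k⁻¹ ∈ centralizer ({val x} : Set G) := fun a ha => by
    rw [mem_centralizer_singleton_iff] at ha ⊢
    rw [← h1]
    calc k * a * k⁻¹ * (k * z * k⁻¹) = k * (a * z) * k⁻¹ := by group
      _ = k * z * k⁻¹ * (k * a * k⁻¹) := by rw [ha]; group
  have hcx : ∀ a ∈ centralizer ({val x} : Set G), k * a * k⁻¹ ∈ centralizer ({z} : Set G) := fun a ha => by
    rw [mem_centralizer_singleton_iff] at ha ⊢
    rw [← h2]
    calc k * a * k⁻¹ * (k * val x * k⁻¹) = k * (a * val x) * k⁻¹ := by group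
      _ = k * val x * k⁻¹ * (k * a * k⁻¹) := by rw [ha]; group
  have hmap : (⁅centralizer ({z} : Set G) ⊓ centralizer ({val x} : Set G),
      (Qs Q g ⊓ centralizer ({z} : Set G)) ⊔ (Qz Q ⊓ centralizer ({val x} : Set G))⁆ : Subgroup G).map
        (MulAut.conj k).toMonoidHom =
      ⁅centralizer ({z} : Set G) ⊓ centralizer ({val x} : Set G),
      (Qs Q g ⊓ centralizer ({z} : Set G)) ⊔ (Qz Q ⊓ centralizer ({val x} : Set G))⁆ := by
    refine eq_of_le_of_card_ge ?_ (le_of_eq (card_map_of_injective (MulEquiv.injective _)).symm)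
    rw [map_commutator]
    refine commutator_mono ?_ ?_
    · rintro _ ⟨a, ha, rfl⟩
      exact ⟨hcx a ha.2, hcz a ha.1⟩
    · rw [Subgroup.map_sup]
      refine sup_le ?_ ?_
      · rintro _ ⟨a, ha, rfl⟩
        exact mem_sup_right ⟨hR a ha.1, hcz a ha.2⟩
      · rintro _ ⟨a, ha, rfl⟩
        exact mem_sup_left ⟨hQ a ha.1, hcx a ha.2⟩
  obtain ⟨hU, hcv⟩ := c.V8_intrinsic.1 hv
  refine c.V8_intrinsic.2 ⟨⟨hR v hU.2, hQ v hU.1⟩, mem_centralizer_iff.2 fun w hw => ?_⟩
  rw [SetLike.mem_coe, ← hmap] at hw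
  obtain ⟨w', hw', rfl⟩ := hw
  have e := mem_centralizer_iff.1 hcv w' hw'
  show k * w' * k⁻¹ * (k * v * k⁻¹) = k * v * k⁻¹ * (k * w' * k⁻¹)
  calc k * w' * k⁻¹ * (k * v * k⁻¹) = k * (w' * v) * k⁻¹ := by group
    _ = k * v * k⁻¹ * (k * w' * k⁻¹) := by rw [e]; group

/-- The normaliser. -/
abbrev L : Subgroup G := Subgroup.normalizer (c.V8 : Set G)

theorem mem_L {k : G} (h : ∀ v ∈ c.V8, k * v * k⁻¹ ∈ c.V8) : k ∈ c.L := by
  show k ∈ Subgroup.normalizer (c.V8 : Set G)
  rw [mem_normalizer_iff_map_conj_eq]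
  refine eq_of_le_of_card_ge ?_ (le_of_eq (card_map_of_injective (MulEquiv.injective _)).symm)
  rintro _ ⟨v, hv, rfl⟩
  exact h v hv

theorem mem_L_iff {w : centralizer ({z} : Set G)} :
    (w : G) ∈ c.L ↔ QuotientGroup.mk' Q w ∈ c.line.lineStab := by
  constructor
  · intro h
    have hv := (mem_normalizer_iff.1 h (val x)).1 c.mem_zxy.2.1
    obtain ⟨a', h1, h2⟩ := c.pi_conj w x
    obtain ⟨a, ha, e⟩ := c.mem_V8.1 hv
    rw [show a = a' from Subtype.ext (Subtype.ext (e.trans h1.symm)), h2] at ha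
    show _ ∨ _ ∨ _
    refine ha.resolve_left fun e0 => c.cls.ne ?_
    rw [← inv_smul_smul (QuotientGroup.mk' Q w) (π x), e0, smul_zero]
  · intro h
    refine c.mem_L fun v hv => ?_
    obtain ⟨a, ha, rfl⟩ := c.mem_V8.1 hv
    obtain ⟨a', h1, h2⟩ := c.pi_conj w a
    refine c.mem_V8.2 ⟨a', ?_, h1⟩
    rw [h2]
    have key : ∀ u, (u = π x ∨ u = n • π x ∨ u = n • n • π x) →
        InLine n (π x) (QuotientGroup.mk' Q w • u) := by
      intro u hu
      obtain ⟨k, hk, rfl⟩ : ∃ k ∈ c.line.lineStab, k • π x = u := by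
        rcases hu with rfl | rfl | rfl
        · exact ⟨1, c.line.lineStab.one_mem, one_smul _ _⟩
        · exact ⟨n, Or.inr (Or.inl rfl), rfl⟩
        · exact ⟨n * n, Or.inr (Or.inr (mul_smul n n _)), mul_smul n n _⟩
      rw [← mul_smul]
      exact Or.inr (c.line.lineStab.mul_mem h hk)
    rcases ha with e | e | e | e
    · exact Or.inl (by rw [e, smul_zero])
    all_goals rw [e]
    · exact key _ (Or.inl rfl)
    · exact key _ (Or.inr (Or.inl rfl))
    · exact key _ (Or.inr (Or.inr rfl))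

theorem L_inf_card : Nat.card ↥(c.L ⊓ centralizer ({z} : Set G)) = 11520 * 2 ^ 13 := by
  have hQ : Nat.card ↥Q = 2 ^ 13 := c.mdl.cardQ
  set T := c.line.lineStab.comap (QuotientGroup.mk' Q) with hT
  have hmap : T.map (centralizer ({z} : Set G)).subtype = c.L ⊓ centralizer ({z} : Set G) := by
    ext k
    constructor
    · rintro ⟨w, hw, rfl⟩
      exact ⟨c.mem_L_iff.2 hw, w.2⟩
    · rintro ⟨hk, hkz⟩
      exact ⟨⟨k, hkz⟩, c.mem_L_iff.1 hk, rfl⟩
  rw [← hmap, card_map_of_injective (subtype_injective _)]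
  let p : ↥T →* ↥c.line.lineStab := ((QuotientGroup.mk' Q).comp T.subtype).codRestrict _ fun w => w.2
  have hp : Function.Surjective p := fun k => by
    obtain ⟨w, hw⟩ := QuotientGroup.mk'_surjective Q k.1
    exact ⟨⟨w, show QuotientGroup.mk' Q w ∈ _ by rw [hw]; exact k.2⟩, Subtype.ext hw⟩
  have h := p.ker.card_mul_index
  rw [index_ker, MonoidHom.range_eq_top.2 hp, card_top, c.line.lineStab_card] at h
  have hk : Nat.card ↥p.ker = Nat.card ↥Q := Nat.card_congr
    { toFun := fun w => ⟨w.1.1, (QuotientGroup.eq_one_iff _).1 (congrArg Subtype.val (MonoidHom.mem_ker.1 w.2))⟩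
      invFun := fun a => ⟨⟨(a : centralizer ({z} : Set G)), show QuotientGroup.mk' Q (a : centralizer ({z} : Set G)) ∈ c.line.lineStab by
          rw [show QuotientGroup.mk' Q (a : centralizer ({z} : Set G)) = 1 from (QuotientGroup.eq_one_iff _).2 a.2]
          exact one_mem _⟩, MonoidHom.mem_ker.2 (Subtype.ext ((QuotientGroup.eq_one_iff _).2 a.2))⟩
      left_inv := fun w => rfl
      right_inv := fun a => rfl }
  rw [hk, hQ] at h
  rw [← h]
  norm_num

/-- The normaliser is transitive on the involutions of the group of order eight. -/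
theorem L_trans {v : G} (hv : v ∈ c.V8) (hv1 : v ≠ 1) : ∃ k ∈ c.L, k * z * k⁻¹ = v := by
  by_cases hvz : v = z
  · exact ⟨1, one_mem _, by rw [hvz]; group⟩
  obtain ⟨h, h1, h2⟩ := c.exists_swap_elem
  have hh : h ∈ c.L := c.mem_L fun u hu => c.swap_maps h1 h2 hu
  obtain ⟨a, ha, rfl⟩ := c.mem_V8.1 hv
  have ha0 : π a ≠ 0 := fun e => ((c.mdl.ker a).1 e).elim hv1 hvz
  obtain ⟨k, hk, hka⟩ : ∃ k ∈ c.line.lineStab, k • π x = π a := by
    rcases ha.resolve_left ha0 with e | e | e <;> rw [e]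
    · exact ⟨1, c.line.lineStab.one_mem, one_smul _ _⟩
    · exact ⟨n, Or.inr (Or.inl rfl), rfl⟩
    · exact ⟨n * n, Or.inr (Or.inr (mul_smul n n _)), mul_smul n n _⟩
  obtain ⟨p, rfl⟩ := QuotientGroup.mk'_surjective Q k
  obtain ⟨a', ha1, ha2⟩ := c.pi_conj p x
  rcases c.mdl.pi_eq (ha2.trans hka) with e | e
  · refine ⟨(p : G) * h, mul_mem (c.mem_L_iff.2 hk) hh, ?_⟩
    calc (p : G) * h * z * ((p : G) * h)⁻¹ = (p : G) * (h * z * h⁻¹) * (p : G)⁻¹ := by group
      _ = val a := by rw [h1, ← ha1]; exact e.symm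
  · obtain ⟨b, hb, hbx⟩ := c.hp.automizer.1
    obtain ⟨b, hbQ, rfl⟩ := hb
    have hbL : (b : G) ∈ c.L := c.mem_L_iff.2 (by
      rw [show QuotientGroup.mk' Q b = 1 from (QuotientGroup.eq_one_iff b).2 hbQ]
      exact one_mem _)
    refine ⟨(p : G) * (b : G) * h, mul_mem (mul_mem (c.mem_L_iff.2 hk) hbL) hh, ?_⟩
    calc (p : G) * (b : G) * h * z * ((p : G) * (b : G) * h)⁻¹
        = (p : G) * ((b : G) * (h * z * h⁻¹) * (b : G)⁻¹) * (p : G)⁻¹ := by group
      _ = (p : G) * (z * val x) * (p : G)⁻¹ := by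
        rw [h1]
        congr 2
        rw [c.hx]
        exact hbx
      _ = ((p : G) * z * (p : G)⁻¹) * ((p : G) * val x * (p : G)⁻¹) := by group
      _ = val a := by
        rw [c.comm_z p, mul_inv_cancel_right, ← ha1, show val a = val a' * z from e]
        exact (c.comm_z (a' : centralizer ({z} : Set G))).symm

theorem L_card : Nat.card ↥c.L = 7 * (11520 * 2 ^ 13) := by
  classical
  letI : MulAction ↥c.L ↥c.V8 := MulAction.compHom _ (c.V8.normalizerMonoidHom)
  set Z0 : ↥c.V8 := ⟨z, c.mem_zxy.1⟩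
  have hsmul : ∀ (k : ↥c.L) (v : ↥c.V8), ((k • v : ↥c.V8) : G) = (k : G) * v * (k : G)⁻¹ := fun k v => rfl
  have horb : MulAction.orbit ↥c.L Z0 = {1}ᶜ := by
    ext v
    constructor
    · rintro ⟨k, rfl⟩ (e : k • Z0 = 1)
      refine c.hp.z_ne_one ((conj_eq_one_iff (a := (k : G)) (b := z)).1 ?_)
      have := congrArg Subtype.val e
      rw [hsmul] at this
      exact this
    · intro hv
      obtain ⟨k, hk, e⟩ := c.L_trans v.2 fun e => hv (Subtype.ext e)
      exact ⟨⟨k, hk⟩, Subtype.ext e⟩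
  have h := (MulAction.stabilizer ↥c.L Z0).card_mul_index
  rw [MulAction.index_stabilizer, horb, Set.ncard_compl, Set.ncard_singleton, c.V8_card] at h
  have hst : Nat.card ↥(MulAction.stabilizer ↥c.L Z0) = Nat.card ↥(c.L ⊓ centralizer ({z} : Set G)) := Nat.card_congr
    { toFun := fun k => ⟨(k : ↥c.L), (k : ↥c.L).2, mem_centralizer_singleton_iff.2
        (mul_inv_eq_iff_eq_mul.1 (congrArg Subtype.val (k.2 : (k : ↥c.L) • Z0 = Z0)))⟩
      invFun := fun k => ⟨⟨k, k.2.1⟩, Subtype.ext (show (k : G) * z * (k : G)⁻¹ = z by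
        rw [mem_centralizer_singleton_iff.1 k.2.2, mul_inv_cancel_right])⟩
      left_inv := fun k => rfl
      right_inv := fun k => rfl }
  rw [hst, c.L_inf_card] at h
  omega

/-- The map to the linear group of degree three. -/
theorem exists_gl : ∃ f : ↥c.L →* GL (Fin 3) (ZMod 2), Function.Surjective f ∧
    ∀ k : ↥c.L, f k = 1 ↔ (k : G) ∈ centralizer (c.V8 : Set G) := by
  classical
  obtain ⟨d, Lq, Mh, hd, -, -, hinj⟩ := CfsgLib.InvolChar.A8Section.exists_linear_model (V := ↥c.V8)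
    (fun v => Subtype.ext (c.V8_elem.2 v v.2))
  rw [c.V8_card] at hd
  obtain rfl : d = 3 := (Nat.pow_right_injective le_rfl (hd.symm.trans (by norm_num : (8 : ℕ) = 2 ^ 3)))
  let f : ↥c.L →* GL (Fin 3) (ZMod 2) := Mh.comp c.V8.normalizerMonoidHom
  have hk : ∀ k : ↥c.L, f k = 1 ↔ (k : G) ∈ centralizer (c.V8 : Set G) := fun k => by
    show Mh (c.V8.normalizerMonoidHom k) = 1 ↔ _
    rw [map_eq_one_iff _ hinj, ← MonoidHom.mem_ker, normalizerMonoidHom_ker, mem_subgroupOf]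
  refine ⟨f, ?_, hk⟩
  have hker : Nat.card ↥f.ker = Nat.card ↥(centralizer (c.V8 : Set G)) := by
    rw [show f.ker = (centralizer (c.V8 : Set G)).subgroupOf c.L from Subgroup.ext fun k => hk k,
      Nat.card_congr (subgroupOfEquivOfLe (centralizer_le_normalizer (c.V8 : Set G))).toEquiv]
  have h := f.ker.card_mul_index
  rw [index_ker, hker, c.cent_card, c.L_card] at h
  refine MonoidHom.range_eq_top.1 (eq_top_of_card_eq _ ?_)
  rw [CfsgLib.InvolChar.SubgroupsA8.gl3_card]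
  omega

/-- The map of the centraliser onto the symmetric group. -/
theorem exists_sym : ∃ r : ↥(centralizer (c.V8 : Set G)) →* S5, Function.Surjective r ∧
    r.ker = c.Rg.subgroupOf (centralizer (c.V8 : Set G)) := by
  obtain ⟨f, hf, hk⟩ := c.line.exists_quotient
  let i : ↥(centralizer (c.V8 : Set G)) →* ↥c.CH :=
    MonoidHom.mk' (fun w => ⟨⟨(w : G), c.cent_le w.2⟩, w.2⟩) fun a b => rfl
  have hi : Function.Surjective i := fun w => ⟨⟨((w : centralizer ({z} : Set G)) : G), w.2⟩, rfl⟩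
  refine ⟨(f.comp c.toY).comp i, (hf.comp c.toY_surj).comp hi, ?_⟩
  ext w
  rw [MonoidHom.mem_ker, MonoidHom.comp_apply, MonoidHom.comp_apply, hk, mem_subgroupOf]
  exact ((c.mem_Rg (w := ⟨(w : G), c.cent_le w.2⟩)).trans (and_iff_right w.2)).symm

theorem isPGroup_Rg : IsPGroup 2 ↥c.Rg := IsPGroup.of_card c.Rg_card

theorem Rg_le_L : c.Rg ≤ c.L := c.Rg_le.trans (centralizer_le_normalizer (c.V8 : Set G))

theorem Rg_normal : (c.Rg.subgroupOf c.L).Normal := by
  haveI : Fact (Nat.Prime 2) := ⟨Nat.prime_two⟩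
  obtain ⟨r, hr, hk⟩ := c.exists_sym
  obtain ⟨f, -, hfk⟩ := c.exists_gl
  set C' := (centralizer (c.V8 : Set G)).subgroupOf c.L
  haveI : C'.Normal := by
    rw [show C' = f.ker from Subgroup.ext fun k => (hfk k).symm]
    infer_instance
  let r' : ↥C' →* S5 :=
    r.comp (subgroupOfEquivOfLe (centralizer_le_normalizer (c.V8 : Set G))).toMonoidHom
  have hr' : Function.Surjective r' := hr.comp (MulEquiv.surjective _)
  have hk' : ∀ w : ↥C', r' w = 1 ↔ ((w : ↥c.L) : G) ∈ c.Rg := fun w => by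
    rw [← MonoidHom.mem_ker, show r'.ker = r.ker.comap
      (subgroupOfEquivOfLe (centralizer_le_normalizer (c.V8 : Set G))).toMonoidHom from (MonoidHom.comap_ker _ _).symm, hk]
    rfl
  have hcore : Cfsg.pCore 2 ↥C' = r'.ker := by
    refine le_antisymm ?_ (CfsgLib.Cores.le_pCore ?_)
    · haveI : ((Cfsg.pCore 2 ↥C').map r').Normal := (inferInstance : (Cfsg.pCore 2 ↥C').Normal).map r' hr'
      have hb := s5_two_bot ((CfsgLib.Cores.isPGroup_pCore (G := ↥C') 2).map r')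
      intro w hw
      exact MonoidHom.mem_ker.2 (mem_bot.1 (hb ▸ ⟨w, hw, rfl⟩))
    · let i : ↥r'.ker →* ↥c.Rg := MonoidHom.mk' (fun w => ⟨((w : ↥C') : ↥c.L), (hk' _).1 (MonoidHom.mem_ker.1 w.2)⟩)
        fun a b => rfl
      exact c.isPGroup_Rg.of_injective i fun a b e => Subtype.ext (Subtype.ext (Subtype.ext (congrArg Subtype.val e :)))
  have hn := CfsgLib.Cores.map_subtype_pCore_normal (G := ↥c.L) 2 C'
  rw [hcore] at hn
  convert hn using 1
  ext w
  constructor
  · intro hw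
    exact ⟨⟨w, c.Rg_le hw⟩, MonoidHom.mem_ker.2 ((hk' _).2 hw), rfl⟩
  · rintro ⟨w', hw', rfl⟩
    exact (hk' w').1 (MonoidHom.mem_ker.1 hw')

/-- The map of the normaliser onto the product. -/
theorem exists_prod_map : ∃ Φ : ↥c.L →* S5 × L32, Function.Surjective Φ ∧
    (∀ w : ↥c.L, Φ w = 1 ↔ (w : G) ∈ c.Rg) ∧
    ∀ w : ↥c.L, (Φ w).2 = 1 ↔ (w : G) ∈ centralizer (c.V8 : Set G) := by
  haveI hn := c.Rg_normal
  obtain ⟨f₀, hf₀, hfk₀⟩ := c.exists_gl
  obtain ⟨esl⟩ := CfsgLib.LargeFischer.Split.gl_equiv_sl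
  let f : ↥c.L →* L32 := esl.toMonoidHom.comp f₀
  have hf : Function.Surjective f := esl.surjective.comp hf₀
  have hfk : ∀ w : ↥c.L, f w = 1 ↔ (w : G) ∈ centralizer (c.V8 : Set G) := fun w => by
    rw [← hfk₀]; exact esl.map_eq_one_iff
  obtain ⟨r, hr, hk⟩ := c.exists_sym
  set R' := c.Rg.subgroupOf c.L
  have hRker : R' ≤ f.ker := fun w hw => MonoidHom.mem_ker.2 ((hfk w).2 (c.Rg_le hw))
  let fb : ↥c.L ⧸ R' →* L32 := QuotientGroup.lift R' f hRker
  have hfb : Function.Surjective fb := fun u => by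
    obtain ⟨w, rfl⟩ := hf u
    exact ⟨QuotientGroup.mk w, rfl⟩
  set C' := (centralizer (c.V8 : Set G)).subgroupOf c.L
  set N := C'.map (QuotientGroup.mk' R')
  have hker : fb.ker = N := by
    ext u
    obtain ⟨w, rfl⟩ := QuotientGroup.mk'_surjective R' u
    constructor
    · intro h
      exact ⟨w, (hfk w).1 (MonoidHom.mem_ker.1 h), rfl⟩
    · rintro ⟨w', hw', e⟩
      rw [MonoidHom.mem_ker, ← e]
      exact (hfk w').2 hw'
  haveI : N.Normal := hker ▸ fb.normal_ker
  let p : ↥C' →* ↥N := (QuotientGroup.mk' R').subgroupMap C'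
  have hp : Function.Surjective p := (QuotientGroup.mk' R').subgroupMap_surjective C'
  let r' : ↥C' →* S5 :=
    r.comp (subgroupOfEquivOfLe (centralizer_le_normalizer (c.V8 : Set G))).toMonoidHom
  have hr' : Function.Surjective r' := hr.comp (MulEquiv.surjective _)
  have hkk : p.ker = r'.ker := by
    ext w
    show p w = 1 ↔ r ((subgroupOfEquivOfLe (centralizer_le_normalizer (c.V8 : Set G))) w) = 1
    rw [← MonoidHom.mem_ker (f := r), hk, mem_subgroupOf]
    exact ⟨fun h => (QuotientGroup.eq_one_iff (w : ↥c.L)).1 (congrArg Subtype.val h),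
      fun h => Subtype.ext ((QuotientGroup.eq_one_iff _).2 h)⟩
  let e : ↥N ≃* S5 := ((QuotientGroup.quotientKerEquivOfSurjective p hp).symm.trans
    (QuotientGroup.quotientMulEquivOfEq hkk)).trans (QuotientGroup.quotientKerEquivOfSurjective r' hr')
  obtain ⟨Φ, hΦ, hsnd⟩ := exists_prod N e fb hfb hker
  refine ⟨Φ.comp (QuotientGroup.mk' R'), hΦ.2.comp (QuotientGroup.mk'_surjective R'), fun w => ?_, fun w => ?_⟩
  · show Φ (QuotientGroup.mk' R' w) = 1 ↔ _
    rw [map_eq_one_iff Φ hΦ.1, QuotientGroup.mk'_apply, QuotientGroup.eq_one_iff]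
    rfl
  · show (Φ (QuotientGroup.mk' R' w)).2 = 1 ↔ _
    rw [hsnd]
    exact hfk w

/-- The core is special with centre the group of order eight. -/
theorem Rg_special : Cfsg.IsSpecial 2 ↥c.Rg ∧ (center ↥c.Rg).map c.Rg.subtype = c.V8 := by
  haveI : Fact (Nat.Prime 2) := ⟨Nat.prime_two⟩
  have hVR : c.V8 ≤ c.Rg := by
    intro v hv
    obtain ⟨a, ha, rfl⟩ := c.mem_V8.1 hv
    refine c.Q_mem_Rg fun u hu => ?_
    exact c.line.polar_D (c.line_D ha) (c.line_D hu)
  have hperp2 : perpSub q c.Perp = c.Ln := by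
    have h1 := perpSub_card q c.mdl.core.nondeg c.Perp
    rw [c.Perp_card, c.mdl.core.cardV] at h1
    have hle : c.Ln ≤ perpSub q c.Perp := fun u hu v hv => by
      rw [polar_comm]; exact hv u hu
    exact (AddSubgroup.eq_of_le_of_card_ge hle (by rw [c.Ln_card]; omega)).symm
  have hcenter : (center ↥c.Rg).map c.Rg.subtype = c.V8 := by
    refine le_antisymm ?_ fun v hv => ⟨⟨v, hVR hv⟩, mem_center_iff.2 fun w => Subtype.ext
      (mem_centralizer_iff.1 (c.Rg_le w.2) v hv).symm, rfl⟩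
    rintro _ ⟨⟨r, hr⟩, hc, rfl⟩
    obtain ⟨w, hw, rfl⟩ := hr
    have hcom : ∀ a : ↥Q, π a ∈ c.Perp → (w : G) * val a = val a * (w : G) := fun a ha =>
      (congrArg Subtype.val (mem_center_iff.1 hc ⟨val a, c.Q_mem_Rg ha⟩)).symm
    have he : QuotientGroup.mk' Q w = 1 := by
      refine c.dat.faith _ hw.2.1 fun d hd => ?_
      obtain ⟨a, rfl⟩ := c.mdl.surj d
      refine c.smul_of_comm (hcom a fun u hu => ?_)
      exact c.line.polar_D hd (c.line_D hu)
    set a : ↥Q := ⟨w, (QuotientGroup.eq_one_iff w).1 he⟩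
    refine c.mem_V8.2 ⟨a, ?_, rfl⟩
    show π a ∈ c.Ln
    rw [← hperp2]
    intro v hv
    obtain ⟨b, rfl⟩ := c.mdl.surj v
    exact (c.mdl.polar_iff a b).2 (hcom b hv)
  have hcomm : _root_.commutator ↥c.Rg ≤ center ↥c.Rg := by
    rw [commutator_def, commutator_le]
    intro a _ b _
    obtain ⟨w, hw, e⟩ : (a : G) * b * (a : G)⁻¹ * (b : G)⁻¹ ∈ (center ↥c.Rg).map c.Rg.subtype :=
      hcenter.symm ▸ (c.Rg_mod a a.2 b b.2).1
    rw [show ⁅a, b⁆ = w from Subtype.ext (by rw [commutatorElement_def]; exact e.symm)]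
    exact hw
  obtain ⟨a0, a1, ha0, ha1, hne⟩ : ∃ a0 a1 : ↥Q, π a0 ∈ c.Perp ∧ π a1 ∈ c.Perp ∧ polar q (π a0) (π a1) ≠ 0 := by
    by_contra hc
    have hle : c.Perp ≤ perpSub q c.Perp := fun u hu v hv => by
      obtain ⟨a, rfl⟩ := c.mdl.surj u
      obtain ⟨b, rfl⟩ := c.mdl.surj v
      by_contra h
      exact hc ⟨a, b, hu, hv, h⟩
    have := AddSubgroup.card_dvd_of_le hle
    rw [c.Perp_card, hperp2, c.Ln_card] at this
    exact absurd (Nat.le_of_dvd (by norm_num) this) (by norm_num)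
  have hcen_le : center ↥c.Rg ≤ _root_.commutator ↥c.Rg := by
    intro v hv
    by_cases hv1 : (v : G) = 1
    · rw [show v = 1 from Subtype.ext hv1]; exact one_mem _
    obtain ⟨k, hk, hkv⟩ := c.L_trans (hcenter ▸ (⟨v, hv, rfl⟩ : (v : G) ∈ (center ↥c.Rg).map c.Rg.subtype)) hv1
    have hmem : ∀ w ∈ c.Rg, k * w * k⁻¹ ∈ c.Rg := fun w hw =>
      mem_subgroupOf.1 (c.Rg_normal.conj_mem ⟨w, c.Rg_le_L hw⟩ hw ⟨k, hk⟩)
    have hzc : val a0 * val a1 * (val a0)⁻¹ * (val a1)⁻¹ = z :=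
      (c.hp.comm_cases (c.val_mem a0) (c.val_mem a1)).resolve_left fun e => hne ((c.mdl.polar_iff a0 a1).2 (by
        rwa [mul_inv_eq_one, mul_inv_eq_iff_eq_mul] at e))
    have e : v = ⁅(⟨k * val a0 * k⁻¹, hmem _ (c.Q_mem_Rg ha0)⟩ : ↥c.Rg), ⟨k * val a1 * k⁻¹, hmem _ (c.Q_mem_Rg ha1)⟩⁆ :=
      Subtype.ext (hkv.symm.trans ((congrArg (fun t => k * t * k⁻¹) hzc.symm).trans (by
        show k * (val a0 * val a1 * (val a0)⁻¹ * (val a1)⁻¹) * k⁻¹ =
          (k * val a0 * k⁻¹) * (k * val a1 * k⁻¹) * (k * val a0 * k⁻¹)⁻¹ * (k * val a1 * k⁻¹)⁻¹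
        group)))
    rw [e]
    exact commutator_mem_commutator (mem_top _) (mem_top _)
  refine ⟨⟨c.isPGroup_Rg, le_antisymm ?_ (hcen_le.trans ?_), le_antisymm hcomm hcen_le⟩, hcenter⟩
  · refine CfsgLib.Transfer.frattini_le_of_commutator_pow (p := 2) _
      (fun a b => hcomm (commutator_mem_commutator (mem_top a) (mem_top b))) fun a => ?_
    obtain ⟨w, hw, e⟩ : (a : G) * a ∈ (center ↥c.Rg).map c.Rg.subtype := hcenter.symm ▸ (c.Rg_mod a a.2 a a.2).2
    rw [show a ^ 2 = w from Subtype.ext (by rw [SubgroupClass.coe_pow, pow_two]; exact e.symm)]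
    exact hw
  · exact CfsgLib.PGroup.commutator_le_frattini c.isPGroup_Rg

/-- The normaliser of the core is the normaliser of the group of order eight. -/
theorem normalizer_Rg : Subgroup.normalizer (c.Rg : Set G) = c.L := by
  refine le_antisymm (fun k hk => c.mem_L fun v hv => ?_) ?_
  · have hcen := c.Rg_special.2
    obtain ⟨w, hw, rfl⟩ := hcen.ge hv
    refine hcen.le ⟨⟨k * (w : G) * k⁻¹, (mem_normalizer_iff.1 hk _).1 w.2⟩, mem_center_iff.2 fun r => Subtype.ext ?_, rfl⟩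
    show (r : G) * (k * (w : G) * k⁻¹) = k * (w : G) * k⁻¹ * (r : G)
    have hr : k⁻¹ * (r : G) * k ∈ c.Rg := by
      refine (mem_normalizer_iff.1 hk _).2 ?_
      simp [mul_assoc]
    have e : k⁻¹ * (r : G) * k * (w : G) = (w : G) * (k⁻¹ * (r : G) * k) :=
      congrArg Subtype.val (mem_center_iff.1 hw ⟨_, hr⟩)
    calc (r : G) * (k * (w : G) * k⁻¹) = k * (k⁻¹ * (r : G) * k * (w : G)) * k⁻¹ := by group
      _ = _ := by rw [e]; group
  · haveI := c.Rg_normal
    exact (normal_subgroupOf_iff_le_normalizer c.Rg_le_L).1 inferInstance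

/-- The order of the centre of the core. -/
theorem Rg_center_card : Nat.card ↥(center ↥c.Rg) = 8 := by
  rw [← c.V8_card, ← c.Rg_special.2, card_map_of_injective (subtype_injective _)]

end CfsgLib.JankoFour.ThreeTwelve.Cfg
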