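import Cfsg.Agent.Lib.JankoFour.ThreeTwelve.Normalizer
import Cfsg.Agent.Lib.JankoFour.ThreeTwelve.Groups
import Cfsg.Prelude.Def_TwoFusion

/-!
# The normalisers of the groups of order five and seven, the quotient, and the absence of a complement
-/

set_option autoImplicit false
set_option linter.unusedSectionVars false
set_option linter.style.haveILetI false

namespace CfsgLib.JankoFour.ThreeTwelve.Cfg

open Subgroup

variable {G : Type*} [Group G] [Finite G] {z : G}
  {Q : Subgroup (centralizer ({z} : Set G))} [Q.Normal] {V : Type*} [AddCommGroup V] [Module (ZMod 2) V]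
  [DistribMulAction ((centralizer ({z} : Set G)) ⧸ Q) V] [Finite V] {q : QuadraticForm (ZMod 2) V} {π : ↥Q → V}
  {n : (centralizer ({z} : Set G)) ⧸ Q} {M : Subgroup ((centralizer ({z} : Set G)) ⧸ Q)} {φ : ↥M →* ↥Cfsg.Spor.M22}
  {g : G} {x y : ↥Q} {E : Subgroup ((centralizer ({z} : Set G)) ⧸ Q)} {D : AddSubgroup V}
  (c : Cfg Q q π n M φ g x y E D)
include c

theorem odd_not_dvd_Rg {p : ℕ} (hp : p.Prime) (hp2 : p ≠ 2) : ¬ p ∣ Nat.card ↥c.Rg := fun h => by
  rw [c.Rg_card] at h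
  exact hp2 ((Nat.prime_dvd_prime_iff_eq hp Nat.prime_two).1 (hp.dvd_of_dvd_pow h))

theorem V8_le_Rg : c.V8 ≤ c.Rg := fun v hv => by
  obtain ⟨w, -, rfl⟩ := c.Rg_special.2.ge hv
  exact w.2

/-- The normaliser of a group of order five centralising the group of order eight lies in the normaliser of it. -/
theorem five_le {P : Subgroup G} (hP : Nat.card ↥P = 5) (hPC : P ≤ centralizer (c.V8 : Set G))
    (hN : Nat.card ↥(normalizer (P : Set G)) = 2 ^ 8 * 3 * 5 * 7) : normalizer (P : Set G) ≤ c.L := by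
  haveI : Fact (Nat.Prime 5) := ⟨by norm_num⟩
  obtain ⟨Φ, hΦ, hk, hsnd⟩ := c.exists_prod_map
  have hPL : P ≤ c.L := hPC.trans (centralizer_le_normalizer _)
  have hR := c.odd_not_dvd_Rg (p := 5) (by norm_num) (by norm_num)
  have h1 := norm_count c.Rg_le_L Φ hΦ hk hR hP hPL
  have h2 := prod_norm_five (map_card Φ hk hR hP hPL) (by
    rintro _ ⟨w, hw, rfl⟩
    exact (hsnd w).2 (hPC hw))
  have h3 : 8 ≤ Nat.card ↥(c.Rg ⊓ centralizer (P : Set G)) := by
    rw [← c.V8_card]
    exact card_le_of_le (le_inf c.V8_le_Rg fun v hv =>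
      mem_centralizer_iff.2 fun w hw => (mem_centralizer_iff.1 (hPC hw) v hv).symm)
  have h4 : Nat.card ↥(normalizer (P : Set G)) ≤ Nat.card ↥(normalizer (P : Set G) ⊓ c.L) := by
    refine le_trans ?_ h1
    rw [hN]
    exact le_trans (by norm_num) (Nat.mul_le_mul h3 h2)
  exact inf_eq_left.1 (eq_of_le_of_card_ge inf_le_left h4)

/-- The normaliser of a group of order seven in the normaliser lies in it, and it has no fixed points on the core. -/
theorem seven_facts {S : Subgroup G} (hS : Nat.card ↥S = 7) (hSL : S ≤ c.L)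
    (hN : Nat.card ↥(normalizer (S : Set G)) = 2 ^ 3 * 3 ^ 2 * 5 * 7) :
    normalizer (S : Set G) ≤ c.L ∧ c.Rg ⊓ centralizer (S : Set G) = ⊥ := by
  haveI : Fact (Nat.Prime 7) := ⟨by norm_num⟩
  obtain ⟨Φ, hΦ, hk, -⟩ := c.exists_prod_map
  have hR := c.odd_not_dvd_Rg (p := 7) (by norm_num) (by norm_num)
  have h1 := norm_count c.Rg_le_L Φ hΦ hk hR hS hSL
  have h2 := prod_norm_seven (map_card Φ hk hR hS hSL)
  have h3 := card_le_of_le (inf_le_left : normalizer (S : Set G) ⊓ c.L ≤ normalizer (S : Set G))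
  rw [hN] at h3
  have h4 := Nat.mul_le_mul_left (Nat.card ↥(c.Rg ⊓ centralizer (S : Set G))) h2
  have h0 : 0 < Nat.card ↥(c.Rg ⊓ centralizer (S : Set G)) := Nat.card_pos
  constructor
  · refine inf_eq_left.1 (eq_of_le_of_card_ge inf_le_left ?_)
    rw [hN]
    nlinarith
  · refine Subgroup.eq_bot_of_card_le _ ?_
    nlinarith

theorem exists_order_five : ∃ P : Subgroup G, Nat.card ↥P = 5 ∧ P ≤ centralizer (c.V8 : Set G) := by
  haveI : Fact (Nat.Prime 5) := ⟨by norm_num⟩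
  obtain ⟨u, hu⟩ := exists_prime_orderOf_dvd_card' (G := ↥(centralizer (c.V8 : Set G))) 5
    (by rw [c.cent_card]; norm_num)
  exact ⟨zpowers (u : G), by rw [Nat.card_zpowers, Subgroup.orderOf_coe, hu], zpowers_le.2 u.2⟩

theorem exists_order_seven : ∃ S : Subgroup G, Nat.card ↥S = 7 ∧ S ≤ c.L := by
  haveI : Fact (Nat.Prime 7) := ⟨by norm_num⟩
  obtain ⟨u, hu⟩ := exists_prime_orderOf_dvd_card' (G := ↥c.L) 7 (by rw [c.L_card]; norm_num)
  exact ⟨zpowers (u : G), by rw [Nat.card_zpowers, Subgroup.orderOf_coe, hu], zpowers_le.2 u.2⟩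

/-- The quotient of the normaliser of the core by it. -/
theorem quotient_iso :
    Nonempty (↥(normalizer (c.Rg : Set G)) ⧸ c.Rg.subgroupOf (normalizer (c.Rg : Set G)) ≃*
      Equiv.Perm (Fin 5) × Matrix.SpecialLinearGroup (Fin 3) (ZMod 2)) := by
  obtain ⟨Φ, hΦ, hk, -⟩ := c.exists_prod_map
  let Ψ := Φ.comp (MulEquiv.subgroupCongr c.normalizer_Rg).toMonoidHom
  have hΨ : Function.Surjective Ψ := hΦ.comp (MulEquiv.surjective _)
  have hker : c.Rg.subgroupOf (normalizer (c.Rg : Set G)) = Ψ.ker :=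
    Subgroup.ext fun w => ⟨fun h => (hk _).2 h, fun h => (hk _).1 h⟩
  exact ⟨(QuotientGroup.quotientMulEquivOfEq hker).trans (QuotientGroup.quotientKerEquivOfSurjective Ψ hΨ)⟩

/-- The core has no complement in the normaliser. -/
theorem no_complement (h5 : ∀ P : Subgroup G, Nat.card ↥P = 5 → P ≤ centralizer ({z} : Set G) →
      ∃ J : Subgroup G, Cfsg.IsInternalDirectProduct P J (centralizer (P : Set G)) ∧
      ∃ (F : Subgroup ↥J) (_ : F.Normal), Cfsg.IsElementaryAbelian 2 F ∧ Nat.card ↥F = 8 ∧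
        Nonempty (↥J ⧸ F ≃* L32) ∧ ∀ K : Subgroup ↥J, ¬ F.IsComplement' K)
    (K : Subgroup ↥(normalizer (c.Rg : Set G))) :
    ¬ (c.Rg.subgroupOf (normalizer (c.Rg : Set G))).IsComplement' K := by
  intro hK
  obtain ⟨Φ, hΦ, hk, hsnd⟩ := c.exists_prod_map
  let Ψ := Φ.comp (MulEquiv.subgroupCongr c.normalizer_Rg).toMonoidHom
  have hΨ : Function.Surjective Ψ := hΦ.comp (MulEquiv.surjective _)
  have hinj : Function.Injective (Ψ.comp K.subtype) := (injective_iff_map_eq_one _).2 fun w hw => by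
    have hmem : (w : ↥(normalizer (c.Rg : Set G))) ∈ c.Rg.subgroupOf (normalizer (c.Rg : Set G)) :=
      (hk _).1 hw
    exact Subtype.ext ((Subgroup.disjoint_def.1 hK.disjoint) hmem w.2)
  have hsur : Function.Surjective (Ψ.comp K.subtype) := fun t => by
    obtain ⟨w, rfl⟩ := hΨ t
    have hw : w ∈ c.Rg.subgroupOf (normalizer (c.Rg : Set G)) ⊔ K := by rw [hK.sup_eq_top]; exact mem_top w
    haveI : (c.Rg.subgroupOf (normalizer (c.Rg : Set G))).Normal := inferInstance
    obtain ⟨r, hr, k, hk', rfl⟩ := mem_sup_of_normal_left.1 hw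
    refine ⟨⟨k, hk'⟩, ?_⟩
    have h1 : Ψ r = 1 := (hk _).2 hr
    show Ψ k = Ψ (r * k)
    rw [map_mul, h1, one_mul]
  let e := MulEquiv.ofBijective (Ψ.comp K.subtype) ⟨hinj, hsur⟩
  haveI : Fact (Nat.Prime 5) := ⟨by norm_num⟩
  obtain ⟨σ, hσ⟩ := exists_prime_orderOf_dvd_card' (G := S5) 5 (by rw [s5_card]; norm_num)
  let toG : ↥K →* G := (normalizer (c.Rg : Set G)).subtype.comp K.subtype
  have htoG : Function.Injective toG := fun a b h => Subtype.ext (Subtype.ext h)
  let u : G := toG (e.symm (σ, 1))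
  let ψ : L32 →* G := toG.comp (e.symm.toMonoidHom.comp (MonoidHom.inr S5 L32))
  have hu : orderOf u = 5 := by
    show orderOf (toG (e.symm (σ, 1))) = 5
    rw [orderOf_injective toG htoG, MulEquiv.orderOf_eq]
    exact (orderOf_injective (MonoidHom.inl S5 L32) (fun a b h => congrArg Prod.fst h) σ).trans hσ
  have hψinj : Function.Injective ψ :=
    htoG.comp (e.symm.injective.comp fun a b h => congrArg Prod.snd h)
  have hcomm : ∀ l, ψ l * u = u * ψ l := fun l => by
    show toG (e.symm (1, l)) * toG (e.symm (σ, 1)) = toG (e.symm (σ, 1)) * toG (e.symm (1, l))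
    rw [← map_mul, ← map_mul, ← map_mul, ← map_mul]
    congr 2
    simp
  have huC : u ∈ centralizer (c.V8 : Set G) :=
    (hsnd _).1 (congrArg Prod.snd (e.apply_symm_apply (σ, 1)))
  set P := zpowers u with hP
  have hPc : Nat.card ↥P = 5 := by rw [hP, Nat.card_zpowers, hu]
  have hψC : ∀ l, ψ l ∈ centralizer (P : Set G) := fun l => mem_centralizer_iff.2 fun t ht => by
    obtain ⟨i, rfl⟩ := mem_zpowers_iff.1 ht
    exact (Commute.zpow_left (hcomm l).symm i).eq
  obtain ⟨J, ⟨hPC, hJC, hPJ, hdisj, hsup⟩, F, hFn, -, hF8, ⟨eF⟩, hno⟩ :=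
    h5 P hPc ((zpowers_le.2 huC).trans c.cent_le)
  have hψJ : ∀ l, ψ l ∈ J := fun l => by
    have hmem : ψ l ∈ P ⊔ J := hsup.symm ▸ hψC l
    let Θ : ↥P × ↥J →* G := MonoidHom.noncommCoprod P.subtype J.subtype fun a b => hPJ a a.2 b b.2
    have hΘ : Θ.range = P ⊔ J := (MonoidHom.noncommCoprod_range _ _ _).trans (by rw [range_subtype, range_subtype])
    obtain ⟨⟨⟨a, ha⟩, ⟨b, hb⟩⟩, hab⟩ := hΘ.symm.le hmem
    have hab : a * b = ψ l := hab
    have h168 : l ^ 168 = 1 := by rw [← l32_card]; exact pow_card_eq_one'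
    have h1 : a ^ 168 * b ^ 168 = 1 := by
      rw [← Commute.mul_pow (hPJ a ha b hb), hab, ← map_pow, h168, map_one]
    have h2 : a ^ 168 ∈ P ⊓ J :=
      ⟨pow_mem ha _, by rw [eq_inv_of_mul_eq_one_left h1]; exact J.inv_mem (J.pow_mem hb _)⟩
    rw [hdisj, mem_bot] at h2
    have h3 := Nat.dvd_gcd (orderOf_dvd_of_pow_eq_one h2) (hPc ▸ Subgroup.orderOf_dvd_natCard P ha)
    rw [show Nat.gcd 168 5 = 1 by rfl, Nat.dvd_one, orderOf_eq_one_iff] at h3
    rw [← hab, h3, one_mul]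
    exact hb
  haveI := hFn
  let ψJ : L32 →* ↥J := ψ.codRestrict J hψJ
  have hψJinj : Function.Injective ψJ := fun a b h => hψinj (congrArg (fun w : ↥J => (w : G)) h)
  haveI := l32_simple
  have hτ : ((QuotientGroup.mk' F).comp ψJ).ker = ⊥ := by
    refine (inferInstance : ((QuotientGroup.mk' F).comp ψJ).ker.Normal).eq_bot_or_eq_top.resolve_right fun h => ?_
    have hall : ∀ l, ψJ l ∈ F := fun l => (QuotientGroup.eq_one_iff _).1 (MonoidHom.mem_ker.1 (h ▸ mem_top l))
    have := Nat.card_le_card_of_injective (fun l => (⟨ψJ l, hall l⟩ : ↥F))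
      (fun a b h' => hψJinj (congrArg Subtype.val h'))
    rw [hF8, l32_card] at this
    omega
  refine hno ψJ.range (isComplement'_of_card_mul_and_disjoint ?_ ?_)
  · rw [hF8, show Nat.card ↥ψJ.range = 168 from
      (Nat.card_congr (MonoidHom.ofInjective hψJinj).toEquiv).symm.trans l32_card,
      card_eq_card_quotient_mul_card_subgroup F, Nat.card_congr eF.toEquiv, l32_card, hF8]
  · refine disjoint_def.2 fun {w} hw hr => ?_
    obtain ⟨l, rfl⟩ := hr
    have hl : l ∈ ((QuotientGroup.mk' F).comp ψJ).ker := (QuotientGroup.eq_one_iff _).2 hw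
    rw [hτ, mem_bot] at hl
    rw [hl, map_one]

end CfsgLib.JankoFour.ThreeTwelve.Cfg
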